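import Cfsg.Agent.Lib.NoFF.Product
import Cfsg.Agent.Lib.Techniques.Functor.SectionStatements
import Cfsg.Agent.Lib.Techniques.Qd.Converse
import Cfsg.Agent.Lib.PStab.ZJ
import Cfsg.Agent.S2761

/-!
Without a section `S₄` the centre and the Thompson subgroup control strong fusion; a section `Qd(p)`
prevents every set of characteristic functors from doing so.
-/

set_option autoImplicit false
set_option linter.style.haveILetI false

namespace CfsgLib.NoFF

open Subgroup Cfsg
open CfsgLib.Techniques.Functor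

universe u

/-- The centre as a functor. -/
def centerFun : ∀ (Q : Type u) [Group Q], Subgroup Q := fun Q _ => center Q

/-- The Thompson subgroup as a functor. -/
def jFun : ∀ (Q : Type u) [Group Q], Subgroup Q := fun Q _ => CfsgLib.PStab.jGen 2 (⊤ : Subgroup Q)

theorem isCharPFunctor_centerFun {p : ℕ} [Fact p.Prime] : IsCharPFunctor.{u} p centerFun := by
  refine ⟨fun Q _ _ hQ hne e => ?_, fun Q R _ _ _ _ φ => ?_⟩
  · haveI := hne
    have h : Nontrivial (center Q) := hQ.center_nontrivial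
    exact ((Subgroup.nontrivial_iff_ne_bot _).1 h) e
  · ext x
    constructor
    · rintro ⟨y, hy, rfl⟩
      refine mem_center_iff.2 fun r => ?_
      obtain ⟨q, rfl⟩ := φ.surjective r
      show φ q * φ y = φ y * φ q
      rw [← map_mul, ← map_mul, mem_center_iff.1 hy q]
    · intro hx
      refine ⟨φ.symm x, mem_center_iff.2 fun q => φ.injective ?_, φ.apply_symm_apply x⟩
      rw [map_mul, map_mul, φ.apply_symm_apply, mem_center_iff.1 hx]

theorem isCharPFunctor_jFun : IsCharPFunctor.{u} 2 jFun := by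
  haveI : Fact (Nat.Prime 2) := ⟨Nat.prime_two⟩
  refine ⟨fun Q _ _ hQ hne => ?_, fun Q R _ _ _ _ φ => ?_⟩
  · haveI := hne
    intro e
    exact CfsgLib.PStab.zjGen_ne_bot (p := 2) (Or.inr rfl) (hQ.to_subgroup ⊤) top_ne_bot
      (le_bot_iff.1 (e ▸ (inf_le_left : CfsgLib.PStab.zjGen 2 (⊤ : Subgroup Q) ≤ _)))
  · rw [jFun, jFun, ← CfsgLib.PStab.jGen_map φ.injective, Subgroup.map_top_of_surjective _ φ.surjective]

theorem induced_centerFun {Γ : Type u} [Group Γ] (T : Subgroup Γ) :
    inducedFunctor centerFun T = T ⊓ centralizer (T : Set Γ) := by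
  ext x
  constructor
  · rintro ⟨⟨y, hy⟩, hyc, rfl⟩
    exact ⟨hy, mem_centralizer_iff.2 fun z hz => congrArg Subtype.val (mem_center_iff.1 hyc ⟨z, hz⟩)⟩
  · rintro ⟨hx, hxc⟩
    exact ⟨⟨x, hx⟩, mem_center_iff.2 fun z => Subtype.ext (mem_centralizer_iff.1 hxc z z.2), rfl⟩

theorem induced_jFun {Γ : Type u} [Group Γ] (T : Subgroup Γ) : inducedFunctor jFun T = thompsonSubgroupOf 2 T := by
  rw [CfsgLib.PStab.thompsonSubgroupOf_eq_jGen, inducedFunctor, jFun,
    ← CfsgLib.PStab.jGen_map T.subtype_injective, ← MonoidHom.range_eq_map, Subgroup.range_subtype]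

/-- The pair of functors. -/
def pairZJ : Set (∀ (Q : Type u) [Group Q], Subgroup Q) := {centerFun, jFun}

theorem isCharPFunctor_pairZJ : ∀ W ∈ pairZJ.{u}, IsCharPFunctor.{u} 2 W := by
  haveI : Fact (Nat.Prime 2) := ⟨Nat.prime_two⟩
  rintro _ (rfl | rfl)
  · exact isCharPFunctor_centerFun
  · exact isCharPFunctor_jFun

/-- The pair controls strong fusion in every section of a group without section `S₄`. -/
theorem controls_pairZJ {G : Type u} [Group G] [Finite G] (hfree : ¬ Involves (Equiv.Perm (Fin 4)) G)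
    (K R : Subgroup G) [(R.subgroupOf K).Normal] :
    FamilyControlsStrongFusionIn 2
      ((fun W => inducedFunctor (G := ↥K ⧸ R.subgroupOf K) W) '' pairZJ) ⊤ := by
  haveI : Fact (Nat.Prime 2) := ⟨Nat.prime_two⟩
  have hfree' : ¬ Involves (Equiv.Perm (Fin 4)) (↥K ⧸ R.subgroupOf K) := fun hc => hfree
    (CfsgLib.LocalEven.Offender.involves_of_injective K.subtype K.subtype_injective
      (CfsgLib.LocalEven.Offender.involves_of_surjective _ (QuotientGroup.mk'_surjective _) hc))
  refine (ctrlAll_iff isCharPFunctor_pairZJ).1 (ctrlAll_of_constrained isCharPFunctor_pairZJ _ fun Δ _ _ hΔ hc =>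
    constrained_hyp isCharPFunctor_pairZJ (fun K' R' hR' hc' T => ?_) Δ hΔ hc)
  have hfree'' : ¬ Involves (Equiv.Perm (Fin 4)) (↥K' ⧸ R'.subgroupOf K') := fun hc => hfree'
    (CfsgLib.LocalEven.Offender.involves_of_injective K'.subtype K'.subtype_injective
      (CfsgLib.LocalEven.Offender.involves_of_surjective _ (QuotientGroup.mk'_surjective _) hc))
  refine glue T (Subgroup.le_normalizer.trans (normalizer_induced_ge isCharPFunctor_centerFun T.2))
    (Subgroup.le_normalizer.trans (normalizer_induced_ge isCharPFunctor_jFun T.2)) (fun g => ?_)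
    (fun A g hg hA hgA => Fus.of_mem ⟨centerFun, Or.inl rfl, rfl⟩ hg hgA)
    (fun A g hg hA hgA => Fus.of_mem ⟨jFun, Or.inr rfl, rfl⟩ hg hgA)
  obtain ⟨c, hcm, n, hn, e⟩ := product hfree'' hc' T g
  refine ⟨c, ?_, n, ?_, e⟩
  · rw [induced_centerFun]
    exact centralizer_le_normalizer _ hcm
  · rw [induced_jFun]
    exact hn

/-- A section `Qd(p)` in which no set of characteristic functors controls fusion. -/
theorem not_controls_of_involves {G : Type u} [Group G] [Finite G] {p : ℕ} [Fact p.Prime]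
    (hqd : Involves ↥(qd p) G) (𝓦 : Set (∀ (Q : Type u) [Group Q], Subgroup Q))
    (h𝓦 : ∀ W ∈ 𝓦, IsCharPFunctor.{u} p W) :
    ∃ (K R : Subgroup G) (_ : (R.subgroupOf K).Normal),
      ¬ FamilyControlsStrongFusionIn p ((fun W => inducedFunctor (G := ↥K ⧸ R.subgroupOf K) W) '' 𝓦) ⊤ := by
  obtain ⟨K, R, hR, ⟨e⟩⟩ := hqd
  refine ⟨K, R, hR, ?_⟩
  rintro ⟨T, -, hT, hTi, hctl⟩
  obtain ⟨a, h, hmem, hno⟩ := CfsgLib.Techniques.Qd.uncontrolled_of_equiv e hT hTi
  obtain ⟨ha, hha⟩ := hmem T hT (by rwa [relIndex_top_right] at hTi)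
  obtain ⟨n, c, hc0, hstep, -, hlast⟩ := hctl {a} h (mem_top h) (Set.singleton_subset_iff.2 ha)
    (by rw [Set.image_singleton]; exact Set.singleton_subset_iff.2 hha)
  have hall : ∀ i, c i ∈ normalizer (T : Set (↥K ⧸ R.subgroupOf K)) := by
    intro i
    induction i using Fin.induction with
    | zero => rw [hc0]; exact one_mem _
    | succ i ih =>
      obtain ⟨_, ⟨W, hW, rfl⟩, hx⟩ := hstep i
      have h1 := mul_mem ((hno W (h𝓦 W hW)).1 hx.2) ih
      rwa [inv_mul_cancel_right] at h1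
  exact (hno centerFun isCharPFunctor_centerFun).2 _ (hall _) (hlast a rfl)

end CfsgLib.NoFF
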