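import Cfsg.Agent.Lib.NoFF.Offender
import Cfsg.Agent.Lib.Classical.SL2Small
import Cfsg.Agent.Lib.LocalEven.S4Section

/-!
Small tools: a nonzero fixed point of a `2`-group, a nontrivial simple section, the section `S₃` of `SL₂(2ⁿ)`.
-/

set_option autoImplicit false
set_option linter.unusedSectionVars false
set_option linter.style.haveILetI false

namespace CfsgLib.NoFF

open Subgroup Cfsg
open CfsgLib.LocalEven.MinOffender (fx)
open Matrix (SpecialLinearGroup)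

variable {X W : Type*} [Group X] [Finite X] [AddCommGroup W] [Finite W] [DistribMulAction X W]

theorem exists_fixed_ne_zero [Nontrivial W] (hexp : ∀ w : W, 2 • w = 0) {P : Subgroup X} (hP : IsPGroup 2 ↥P) :
    ∃ w ∈ fx W P, w ≠ 0 := by
  haveI : Fact (Nat.Prime 2) := ⟨Nat.prime_two⟩
  obtain ⟨v, hv⟩ := exists_ne (0 : W)
  have h2 : 2 ∣ Nat.card W := by
    rw [← addOrderOf_eq_prime (hexp v) hv]
    exact addOrderOf_dvd_natCard v
  obtain ⟨b, hb, hb0⟩ := hP.exists_fixed_point_of_prime_dvd_card_of_fixed_point (α := W) h2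
    (a := 0) (fun g => smul_zero g)
  exact ⟨b, fun p hp => hb ⟨p, hp⟩, fun e => hb0 e.symm⟩

/-- Without a nontrivial simple section above `U` every element is a `2`-element modulo the centralizer. -/
theorem exists_simple_section (hexp : ∀ w : W, 2 • w = 0) (U : AddSubgroup W) (hU : ∀ x : X, ∀ u ∈ U, x • u = u)
    (hbad : ∃ x : X, ∀ k : ℕ, ∃ w : W, x ^ 2 ^ k • w - w ∉ U) :
    ∃ W0 W1 : AddSubgroup W, U ≤ W0 ∧ W0 < W1 ∧ (∀ x : X, ∀ w ∈ W0, x • w ∈ W0) ∧
      (∀ x : X, ∀ w ∈ W1, x • w ∈ W1) ∧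
      (∀ Z : AddSubgroup W, (∀ x : X, ∀ w ∈ Z, x • w ∈ Z) → W0 ≤ Z → Z ≤ W1 → Z = W0 ∨ Z = W1) ∧
      ∃ x : X, ∃ w ∈ W1, x • w - w ∉ W0 := by
  classical
  by_contra hc
  push Not at hc
  obtain ⟨x, hx⟩ := hbad
  suffices key : ∀ (n : ℕ) (Z : AddSubgroup W), Nat.card ↥Z = n → U ≤ Z → (∀ y : X, ∀ w ∈ Z, y • w ∈ Z) →
      ∃ k : ℕ, ∀ w ∈ Z, x ^ 2 ^ k • w - w ∈ U by
    obtain ⟨k, hk⟩ := key _ ⊤ rfl le_top (fun _ _ _ => trivial)
    obtain ⟨w, hw⟩ := hx k
    exact hw (hk w trivial)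
  intro n
  induction n using Nat.strong_induction_on with
  | _ n ih =>
    intro Z hZn hUZ hZinv
    rcases hUZ.eq_or_lt with e | hlt
    · exact ⟨0, fun w hw => by rw [hU _ w (e ▸ hw), sub_self]; exact zero_mem U⟩
    obtain ⟨W0, ⟨hU0, h01, hi0⟩, hmax⟩ := Set.exists_max_image
      {Y : AddSubgroup W | U ≤ Y ∧ Y < Z ∧ ∀ y : X, ∀ w ∈ Y, y • w ∈ Y} (fun Y => Nat.card ↥Y)
      (Set.toFinite _) ⟨U, le_rfl, hlt, fun y w hw => by rw [hU y w hw]; exact hw⟩
    have hsimp : ∀ Y : AddSubgroup W, (∀ y : X, ∀ w ∈ Y, y • w ∈ Y) → W0 ≤ Y → Y ≤ Z → Y = W0 ∨ Y = Z := by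
      intro Y hY h0 h1
      rcases h1.eq_or_lt with e | e
      · exact Or.inr e
      · exact Or.inl (AddSubgroup.eq_of_le_of_card_ge h0 (hmax Y ⟨hU0.trans h0, e, hY⟩)).symm
    have htriv := hc W0 Z hU0 h01 hi0 hZinv hsimp
    obtain ⟨k, hk⟩ := ih _ (hZn ▸ lt_of_le_of_ne (Nat.card_le_card_of_injective _
      (AddSubgroup.inclusion_injective h01.le)) fun e =>
        h01.ne (AddSubgroup.eq_of_le_of_card_ge h01.le e.ge)) W0 rfl hU0 hi0
    refine ⟨k + 1, fun w hw => ?_⟩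
    have h1 := hk _ (htriv (x ^ 2 ^ k) w hw)
    have h2 := hexp (x ^ 2 ^ k • w - w)
    rw [two_nsmul] at h2
    rw [pow_succ, pow_mul, pow_two, mul_smul]
    rw [smul_sub] at h1
    have e : x ^ 2 ^ k • x ^ 2 ^ k • w - w =
        x ^ 2 ^ k • x ^ 2 ^ k • w - x ^ 2 ^ k • w - (x ^ 2 ^ k • w - w) +
          ((x ^ 2 ^ k • w - w) + (x ^ 2 ^ k • w - w)) := by abel
    rw [e, h2, add_zero]
    exact h1

theorem involves_perm_three {F : Type} [Field F] [Fintype F] {n : ℕ} (hF : Fintype.card F = 2 ^ n)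
    (ρ : X →* SpecialLinearGroup (Fin 2) F) (hρ : Function.Bijective ρ) :
    Involves (Equiv.Perm (Fin 3)) X := by
  classical
  haveI : Fact (Nat.Prime 2) := ⟨Nat.prime_two⟩
  haveI : CharP F 2 := by
    obtain ⟨m, hp, hm⟩ := FiniteField.card F (ringChar F)
    have : ringChar F = 2 := by
      refine (Nat.prime_dvd_prime_iff_eq hp Nat.prime_two).1 ?_
      refine hp.dvd_of_dvd_pow (n := n) ?_
      rw [← hF, hm]
      exact dvd_pow_self _ m.ne_zero
    exact this ▸ ringChar.charP F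
  obtain ⟨e⟩ := CfsgLib.Classical.sl_two_card_two (F := ZMod 2) (by simp)
  let j : SpecialLinearGroup (Fin 2) (ZMod 2) →* X :=
    (MulEquiv.ofBijective ρ hρ).symm.toMonoidHom.comp
      (Matrix.SpecialLinearGroup.map (ZMod.castHom (dvd_refl 2) F))
  have hj : Function.Injective j := by
    refine (MulEquiv.ofBijective ρ hρ).symm.injective.comp fun a b h => Subtype.ext ?_
    exact Matrix.map_injective (ZMod.castHom (dvd_refl 2) F).injective (congrArg Subtype.val h)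
  exact CfsgLib.LocalEven.Offender.involves_of_hom j.range
    (e.toMonoidHom.comp (MonoidHom.ofInjective hj).symm.toMonoidHom)
    (e.surjective.comp (MonoidHom.ofInjective hj).symm.surjective)

end CfsgLib.NoFF
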