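import Cfsg.Agent.Lib.NoFF.Key
import Cfsg.Agent.Lib.NoFF.Section
import Cfsg.Agent.Lib.LocalEven.MinOffender.Main

/-!
An offender generating with each outside conjugate, fixing a generating subspace on which the maximal
subgroup has no offender, gives an offender on a smaller module.
-/

set_option autoImplicit false
set_option linter.unusedSectionVars false
set_option linter.style.haveILetI false

namespace CfsgLib.NoFF

open Subgroup Cfsg
open CfsgLib.Fusion (conjSub mem_conjSub conj_mem_conjSub conjSub_conjSub conjSub_one conjSub_mono card_conjSub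
  conjSub_eq_iff_mem_normalizer)
open CfsgLib.LocalEven.MinOffender (fx fx_anti quad_of_strict card_fx_conj mem_fx_conj smul_mem_fx_conj pair_le)

universe u

theorem card_sup_mul_card_inf {W : Type*} [AddCommGroup W] (P Q : AddSubgroup W) :
    Nat.card ↥(P ⊔ Q) * Nat.card ↥(P ⊓ Q) = Nat.card ↥P * Nat.card ↥Q := by
  let φ : ↥P × ↥Q →+ ↥(P ⊔ Q) :=
    { toFun := fun z => ⟨(z.1 : W) + z.2, AddSubgroup.add_mem_sup z.1.2 z.2.2⟩
      map_zero' := Subtype.ext (add_zero 0)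
      map_add' := fun a b => Subtype.ext (by simp only [Prod.fst_add, Prod.snd_add, AddSubgroup.coe_add]; abel) }
  have hs : Function.Surjective φ := fun w => by
    obtain ⟨x, hx, y, hy, e⟩ := AddSubgroup.mem_sup.1 w.2
    exact ⟨(⟨x, hx⟩, ⟨y, hy⟩), Subtype.ext e⟩
  have hk : Nat.card ↥φ.ker = Nat.card ↥(P ⊓ Q) := by
    have hval : ∀ z : ↥φ.ker, (z.1.1 : W) = -(z.1.2 : W) := fun z =>
      eq_neg_of_add_eq_zero_left (congrArg Subtype.val z.2 :)
    refine Nat.card_congr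
      { toFun := fun z => ⟨(z.1.1 : W), AddSubgroup.mem_inf.2 ⟨z.1.1.2, hval z ▸ neg_mem z.1.2.2⟩⟩
        invFun := fun v => ⟨(⟨v, (AddSubgroup.mem_inf.1 v.2).1⟩, ⟨-(v : W), neg_mem (AddSubgroup.mem_inf.1 v.2).2⟩),
          Subtype.ext (add_neg_cancel (v : W))⟩
        left_inv := fun z => Subtype.ext (Prod.ext rfl (Subtype.ext (by
          show -(z.1.1 : W) = z.1.2
          rw [hval, neg_neg])))
        right_inv := fun _ => rfl }
  symm
  rw [← Nat.card_prod, AddSubgroup.card_eq_card_quotient_mul_card_addSubgroup φ.ker,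
    Nat.card_congr (QuotientAddGroup.quotientKerEquivOfSurjective φ hs).toEquiv, hk]

variable {X W : Type u} [Group X] [Finite X] [AddCommGroup W] [Finite W] [DistribMulAction X W]

/-- The configuration. -/
structure CoreHyp (A Mx : Subgroup X) (Y : AddSubgroup W) (T : Sylow 2 X) : Prop where
  free : ¬ Involves (Equiv.Perm (Fin 3)) X
  exp : ∀ w : W, 2 • w = 0
  faithful : ∀ x : X, (∀ w : W, x • w = w) → x = 1
  elem : Elem2 A
  ne : A ≠ ⊥
  off : OffOn W A
  strict : ∀ A₀ : Subgroup X, A₀ ≤ A → A₀ ≠ ⊥ → A₀ ≠ A →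
    Nat.card ↥A₀ * Nat.card ↥(fx W A₀) < Nat.card ↥A * Nat.card ↥(fx W A)
  fixY : ∀ a ∈ A, ∀ y ∈ Y, a • y = y
  gens : AddSubgroup.closure {w : W | ∃ x : X, ∃ y ∈ Y, w = x • y} = ⊤
  stabY : ∀ m ∈ Mx, ∀ y ∈ Y, m • y ∈ Y
  proper : Mx ≠ ⊤
  sylLe : (T : Subgroup X) ≤ Mx
  aLe : A ≤ (T : Subgroup X)
  sub : ∀ H : Subgroup X, A ≤ H → H ≠ ⊤ → H ≤ Mx
  weak : ∀ E : Subgroup X, E ≤ Mx → Elem2 E → OffSub Y E → ∀ e ∈ E, ∀ y ∈ Y, e • y = y

namespace CoreHyp

variable {A Mx : Subgroup X} {Y : AddSubgroup W} {T : Sylow 2 X} (h : CoreHyp A Mx Y T)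
include h

theorem fixes_all {x : X} (hx : ∀ (z : X), ∀ y ∈ Y, x • z • y = z • y) : x = 1 := by
  refine h.faithful x fun w => ?_
  have hle : (⊤ : AddSubgroup W) ≤ AddMonoidHom.eqLocus (DistribSMul.toAddMonoidHom W x) (AddMonoidHom.id W) := by
    rw [← h.gens, AddSubgroup.closure_le]
    rintro _ ⟨z, y, hy, rfl⟩
    exact hx z y hy
  exact hle (AddSubgroup.mem_top w)

theorem no_minOff {N : Subgroup X} [hN : N.Normal] (hN2 : IsPGroup 2 ↥N) {E : Subgroup X} (hE : IsMinOff W E)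
    (hEN : E ≤ N) : False := by
  haveI : Fact (Nat.Prime 2) := ⟨Nat.prime_two⟩
  have hNM : N ≤ Mx := ((CfsgLib.Cores.le_pCore hN2).trans (CfsgLib.Cores.pCore_le_sylow T)).trans h.sylLe
  refine hE.ne ((eq_bot_iff_forall _).2 fun e he => h.fixes_all fun z y hy => ?_)
  have hle : conjSub z⁻¹ E ≤ Mx := by
    refine le_trans ?_ hNM
    rintro _ ⟨a, ha, rfl⟩
    exact hN.conj_mem a (hEN ha) z⁻¹
  have h1 := h.weak _ hle (hE.conj z⁻¹).elem ((hE.conj z⁻¹).offSub Y) _ (conj_mem_conjSub (g := z⁻¹) he) y hy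
  rw [inv_inv, mul_smul, mul_smul, inv_smul_eq_iff] at h1
  exact h1

theorem weak_two {N : Subgroup X} [N.Normal] (hN2 : IsPGroup 2 ↥N) {D : Subgroup X} (hDN : D ≤ N) (hD : Elem2 D)
    (hne : D ≠ ⊥) : Nat.card ↥D * Nat.card ↥(fx W D) < Nat.card W := by
  by_contra hc
  obtain ⟨E, hED, hE⟩ := exists_isMinOff hD hne (not_lt.1 hc)
  exact h.no_minOff hN2 hE (hED.trans hDN)

theorem selfNorm {x : X} (hx : x ∈ normalizer (Mx : Set X)) : x ∈ Mx := by
  haveI : Fact (Nat.Prime 2) := ⟨Nat.prime_two⟩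
  by_contra hc
  have hA : A ≤ Mx := h.aLe.trans h.sylLe
  have htop : normalizer (Mx : Set X) = ⊤ := by
    by_contra hne
    exact hc (h.sub _ (hA.trans le_normalizer) hne hx)
  haveI : Mx.Normal := normalizer_eq_top_iff.1 htop
  have hfr := Sylow.normalizer_sup_eq_top (T.subtype h.sylLe)
  rw [Sylow.coe_subtype, Subgroup.map_subgroupOf_eq_of_le h.sylLe] at hfr
  by_cases hN : normalizer ((T : Subgroup X) : Set X) = ⊤
  · haveI : (T : Subgroup X).Normal := normalizer_eq_top_iff.1 hN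
    exact (h.weak_two T.2 h.aLe h.elem h.ne).not_ge h.off
  · exact h.proper (top_le_iff.1 (hfr ▸ sup_le (h.sub _ (h.aLe.trans le_normalizer) hN) le_rfl))

theorem gen {x : X} (hx : x ∉ Mx) : A ⊔ conjSub x A = ⊤ := by
  by_contra hne
  have h1 : conjSub x A ≤ Mx := le_sup_right.trans (h.sub _ le_sup_left hne)
  have h2 : A ≤ conjSub x⁻¹ Mx := by
    have := conjSub_mono x⁻¹ h1
    rwa [conjSub_conjSub, inv_mul_cancel, conjSub_one] at this
  have h3 : conjSub x⁻¹ Mx ≠ ⊤ := fun e => h.proper (eq_top_of_card_eq _ (by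
    rw [← card_conjSub x⁻¹ Mx, e, card_top]))
  have h4 : conjSub x⁻¹ Mx = Mx := eq_of_le_of_card_ge (h.sub _ h2 h3) (by rw [card_conjSub])
  exact hx (h.selfNorm (by simpa using inv_mem (conjSub_eq_iff_mem_normalizer.1 h4)))

theorem absurd_of_smaller (IH : ∀ m < Nat.card X + Nat.card W, NoOffenders.{u} m) : False := by
  classical
  haveI : Fact (Nat.Prime 2) := ⟨Nat.prime_two⟩
  have hquad : ∀ {a b : X}, a ∈ A → b ∈ A → ∀ v : W, a • (b • v - v) = b • v - v := fun {a b} ha hb v =>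
    quad_of_strict h.exp h.elem.isPGroup h.elem.comm h.off h.strict ha hb v
  haveI : Nontrivial W := by
    by_contra hc
    rw [not_nontrivial_iff_subsingleton] at hc
    exact h.ne ((eq_bot_iff_forall _).2 fun a _ => h.faithful a fun w => Subsingleton.elim _ _)
  -- the natural module case
  by_cases hmoved : ∃ v ∈ fx W (T : Subgroup X), v ∉ fx W (⊤ : Subgroup X)
  · have hyp : CfsgLib.LocalEven.MinOffender.Hyp 2 A T Mx W :=
      ⟨Nat.prime_two, h.exp, h.faithful, h.sylLe, h.proper, fun H hT hH => h.sub H (h.aLe.trans hT) hH, h.aLe,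
        h.elem.comm, h.off, h.strict, hmoved, fun x hx => h.gen hx⟩
    obtain ⟨-, F, iF, iFF, hF, ρ, -, hρ, -⟩ := hyp.main
    obtain ⟨n, hn⟩ := h.elem.isPGroup.exists_card_eq
    exact h.free (involves_perm_three (hF.trans hn) ρ hρ)
  push Not at hmoved
  set U := fx W (⊤ : Subgroup X) with hUdef
  have hU : ∀ x : X, ∀ u ∈ U, x • u = u := fun x u hu => hu x (mem_top x)
  obtain ⟨u₀, hu₀, hu₀'⟩ := exists_fixed_ne_zero h.exp T.2
  have hUne : U ≠ ⊥ := fun e => hu₀' (AddSubgroup.mem_bot.1 (e ▸ hmoved u₀ hu₀))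
  obtain ⟨g, hg⟩ : ∃ g, g ∉ Mx := by
    by_contra hc; push Not at hc; exact h.proper (eq_top_iff.2 fun y _ => hc y)
  set C := fx W A with hC
  set C' := fx W (conjSub g A) with hC'
  have htwo : ∀ {x : X}, x ∉ Mx → ∀ v ∈ fx W A, v ∈ fx W (conjSub x A) → v ∈ U := by
    intro x hx v h1 h2
    have hle : (⊤ : Subgroup X) ≤ MulAction.stabilizer X v := by
      rw [← h.gen hx]
      exact sup_le (fun a ha => h1 a ha) fun a ha => h2 a ha
    exact fun y _ => hle (mem_top y)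
  have hquadC : ∀ {a : X}, a ∈ A → ∀ v, a • v - v ∈ C := fun {a} ha v b hb => hquad hb ha v
  have hquadC' : ∀ {a : X}, a ∈ conjSub g A → ∀ v, a • v - v ∈ C' := fun {a} ha v => by
    rw [hC', mem_fx_conj, smul_sub, ← mul_smul, show g⁻¹ * a = g⁻¹ * a * g * g⁻¹ by group, mul_smul]
    exact hquadC (mem_conjSub.1 ha) _
  -- a subgroup invariant under both offenders is invariant
  have hinv : ∀ Z : AddSubgroup W, (∀ a ∈ A, ∀ z ∈ Z, a • z ∈ Z) → (∀ a ∈ conjSub g A, ∀ z ∈ Z, a • z ∈ Z) →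
      ∀ x : X, ∀ z ∈ Z, x • z ∈ Z := by
    intro Z h1 h2 x
    let St : Subgroup X :=
      { carrier := {x | ∀ z, x • z ∈ Z ↔ z ∈ Z}
        one_mem' := fun z => by rw [one_smul]
        mul_mem' := fun {a b} ha hb z => by rw [mul_smul]; exact (ha _).trans (hb z)
        inv_mem' := fun {a} ha z => by rw [← ha (a⁻¹ • z), smul_inv_smul] }
    have hle : (⊤ : Subgroup X) ≤ St := by
      rw [← h.gen hg]
      refine sup_le (fun a ha z => ⟨fun hz => ?_, h1 a ha z⟩) fun a ha z => ⟨fun hz => ?_, h2 a ha z⟩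
      · have := h1 _ (inv_mem ha) _ hz; rwa [inv_smul_smul] at this
      · have := h2 _ (inv_mem ha) _ hz; rwa [inv_smul_smul] at this
    exact fun z hz => (hle (mem_top x) z).2 hz
  have hCC : C ⊓ C' = U :=
    le_antisymm (fun v hv => htwo hg v hv.1 hv.2) (le_inf (fx_anti le_top) (fx_anti le_top))
  have hYC : Y ≤ C := fun y hy a ha => h.fixY a ha y hy
  have hsum : C ⊔ C' = ⊤ := by
    have hi := hinv (C ⊔ C') (fun a ha z hz => ?_) (fun a ha z hz => ?_)
    · rw [eq_top_iff, ← h.gens, AddSubgroup.closure_le]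
      rintro _ ⟨x, y, hy, rfl⟩
      exact hi x y (le_sup_left (a := C) (hYC hy))
    · rw [← sub_add_cancel (a • z) z]
      exact add_mem (le_sup_left (a := C) (hquadC ha z)) hz
    · rw [← sub_add_cancel (a • z) z]
      exact add_mem (le_sup_right (a := C) (hquadC' ha z)) hz
  have hcC : Nat.card ↥C' = Nat.card ↥C := card_fx_conj g A
  have hWU : Nat.card W * Nat.card ↥U = Nat.card ↥C * Nat.card ↥C := by
    have := card_sup_mul_card_inf C C'
    rwa [hsum, hCC, hcC, Nat.card_congr AddSubgroup.topEquiv.toEquiv] at this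
  -- the elements trivial modulo `U`
  let S : Subgroup X :=
    { carrier := {s | ∀ w : W, s • w - w ∈ U}
      one_mem' := fun w => by rw [one_smul, sub_self]; exact zero_mem U
      mul_mem' := fun {a b} ha hb w => by
        have := add_mem (ha (b • w)) (hb w)
        rwa [sub_add_sub_cancel, ← mul_smul] at this
      inv_mem' := fun {a} ha w => by
        have := neg_mem (ha (a⁻¹ • w))
        rwa [smul_inv_smul, neg_sub] at this }
  haveI hSn : S.Normal := ⟨fun s hs x w => by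
    have h1 := hU x _ (hs (x⁻¹ • w))
    have h2 : x • (s • x⁻¹ • w - x⁻¹ • w) ∈ U := by rw [h1]; exact hs _
    rwa [smul_sub, smul_inv_smul, ← mul_smul, ← mul_smul] at h2⟩
  have hSel : Elem2 S := fun s hs => h.faithful _ fun w => by
    have h1 := hU s _ (hs w)
    have h2 := h.exp (s • w - w)
    rw [two_nsmul] at h2
    rw [smul_sub] at h1
    rw [mul_smul]
    calc s • s • w = (s • s • w - s • w) + s • w := by abel
      _ = (s • w - w) + ((s • w - w) + w) := by rw [h1]; abel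
      _ = w := by rw [← add_assoc, h2, zero_add]
  have hweakS : ∀ D : Subgroup X, D ≤ S → D ≠ ⊥ → Nat.card ↥D * Nat.card ↥(fx W D) < Nat.card W :=
    fun D hD hne => h.weak_two hSel.isPGroup hD (hSel.mono hD) hne
  -- the simple section
  have hbad : ∃ x : X, ∀ k : ℕ, ∃ w : W, x ^ 2 ^ k • w - w ∉ U := by
    by_contra hc
    push Not at hc
    have hX : IsPGroup 2 ↥(⊤ : Subgroup X) := fun x => by
      obtain ⟨k, hk⟩ := hc x
      refine ⟨k + 1, Subtype.ext ?_⟩
      rw [Subgroup.coe_pow, Subgroup.coe_one, pow_succ, pow_mul, pow_two]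
      exact hSel _ hk
    exact (h.weak_two hX le_top h.elem h.ne).not_ge h.off
  obtain ⟨W0, W1, hU0, h01, hi0, hi1, hsimple, x₁, w₁, hw₁, hx₁⟩ :=
    exists_simple_section h.exp U hU hbad
  let FA : Subgroup X → AddSubgroup W := fun H =>
    { carrier := {w | w ∈ W1 ∧ ∀ a ∈ H, a • w - w ∈ W0}
      add_mem' := fun {v w} hv hw => ⟨add_mem hv.1 hw.1, fun a ha => by
        rw [smul_add, add_sub_add_comm]; exact add_mem (hv.2 a ha) (hw.2 a ha)⟩
      zero_mem' := ⟨zero_mem W1, fun a _ => by rw [smul_zero, sub_self]; exact zero_mem W0⟩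
      neg_mem' := fun {v} hv => ⟨neg_mem hv.1, fun a ha => by
        rw [smul_neg, show -(a • v) - -v = -(a • v - v) by abel]; exact neg_mem (hv.2 a ha)⟩ }
  have hFA0 : ∀ H, W0 ≤ FA H := fun H w hw => ⟨h01.le hw, fun a _ => sub_mem (hi0 a w hw) hw⟩
  have hFA1 : ∀ H, FA H ≤ W1 := fun H w hw => hw.1
  -- the elements trivial on the section
  let K : Subgroup X :=
    { carrier := {x | ∀ w ∈ W1, x • w - w ∈ W0}
      one_mem' := fun w _ => by rw [one_smul, sub_self]; exact zero_mem W0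
      mul_mem' := fun {a b} ha hb w hw => by
        have := add_mem (ha (b • w) (hi1 b w hw)) (hb w hw)
        rwa [sub_add_sub_cancel, ← mul_smul] at this
      inv_mem' := fun {a} ha w hw => by
        have := neg_mem (ha (a⁻¹ • w) (hi1 _ w hw))
        rwa [smul_inv_smul, neg_sub] at this }
  haveI hKn : K.Normal := ⟨fun s hs x w hw => by
    have h2 := hi0 x _ (hs (x⁻¹ • w) (hi1 _ w hw))
    rwa [smul_sub, smul_inv_smul, ← mul_smul, ← mul_smul] at h2⟩
  have hallfix : ∀ H : Subgroup X, H = ⊤ → FA H = W0 := fun H hH => by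
    rcases hsimple (FA H) (fun x w hw => ⟨hi1 x w hw.1, fun a ha => by
        have h1 := hw.2 (a * x) (hH ▸ mem_top _)
        have h2 := hw.2 x (hH ▸ mem_top _)
        rw [← sub_sub_sub_cancel_right (a • x • w) (x • w) w, ← mul_smul]
        exact sub_mem h1 h2⟩) (hFA0 H) (hFA1 H) with e | e
    · exact e
    · exact absurd ((e ▸ hw₁ : w₁ ∈ FA H).2 x₁ (hH ▸ mem_top _)) hx₁
  have hFAinf : FA A ⊓ FA (conjSub g A) = W0 := by
    refine le_antisymm (fun w hw => ?_) (le_inf (hFA0 _) (hFA0 _))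
    rw [← hallfix _ (h.gen hg)]
    refine ⟨hw.1.1, fun x hx => ?_⟩
    let St : Subgroup X :=
      { carrier := {x | x • w - w ∈ W0}
        one_mem' := show (1 : X) • w - w ∈ W0 by rw [one_smul, sub_self]; exact zero_mem W0
        mul_mem' := fun {a b} (ha : a • w - w ∈ W0) (hb : b • w - w ∈ W0) => show (a * b) • w - w ∈ W0 by
          have := add_mem (hi0 a _ hb) ha
          rwa [smul_sub, sub_add_sub_cancel, ← mul_smul] at this
        inv_mem' := fun {a} (ha : a • w - w ∈ W0) => show a⁻¹ • w - w ∈ W0 by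
          have := neg_mem (hi0 a⁻¹ _ ha)
          rwa [smul_sub, inv_smul_smul, neg_sub] at this }
    exact (sup_le (fun a ha => hw.1.2 a ha) (fun a ha => hw.2.2 a ha) : _ ≤ St) hx
  have hFAsup : FA A ⊔ FA (conjSub g A) = W1 := by
    refine le_antisymm (sup_le (hFA1 _) (hFA1 _)) ?_
    have hle : W0 ⊔ (C ⊓ W1) ⊔ (C' ⊓ W1) ≤ FA A ⊔ FA (conjSub g A) := by
      refine sup_le (sup_le ((hFA0 A).trans le_sup_left) ?_) ?_
      · refine le_trans (fun w hw => ?_) le_sup_left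
        exact ⟨hw.2, fun a ha => by rw [hw.1 a ha, sub_self]; exact zero_mem W0⟩
      · refine le_trans (fun w hw => ?_) le_sup_right
        exact ⟨hw.2, fun a ha => by rw [hw.1 a ha, sub_self]; exact zero_mem W0⟩
    refine le_trans ?_ hle
    set Z := W0 ⊔ (C ⊓ W1) ⊔ (C' ⊓ W1) with hZ
    have hZ1 : Z ≤ W1 := sup_le (sup_le h01.le inf_le_right) inf_le_right
    have hi := hinv Z (fun a ha z hz => by
        rw [← sub_add_cancel (a • z) z]
        exact add_mem ((le_sup_right.trans le_sup_left : C ⊓ W1 ≤ Z)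
          (AddSubgroup.mem_inf.2 ⟨hquadC ha z, sub_mem (hi1 a z (hZ1 hz)) (hZ1 hz)⟩)) hz)
      (fun a ha z hz => by
        rw [← sub_add_cancel (a • z) z]
        exact add_mem ((le_sup_right : C' ⊓ W1 ≤ Z) (AddSubgroup.mem_inf.2 ⟨hquadC' ha z, sub_mem (hi1 a z (hZ1 hz)) (hZ1 hz)⟩)) hz)
    rcases hsimple Z hi (le_sup_left.trans le_sup_left) hZ1 with e | e
    · exfalso
      refine hx₁ ?_
      have hle : (⊤ : Subgroup X) ≤ K := by
        rw [← h.gen hg]
        refine sup_le (fun a ha w hw => ?_) fun a ha w hw => ?_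
        · exact e.le ((le_sup_right.trans le_sup_left : C ⊓ W1 ≤ Z) (AddSubgroup.mem_inf.2 ⟨hquadC ha w, sub_mem (hi1 a w hw) hw⟩))
        · exact e.le ((le_sup_right : C' ⊓ W1 ≤ Z) (AddSubgroup.mem_inf.2 ⟨hquadC' ha w, sub_mem (hi1 a w hw) hw⟩))
      exact hle (mem_top x₁) w₁ hw₁
    · exact e.ge
  have hcFA : Nat.card ↥(FA (conjSub g A)) = Nat.card ↥(FA A) := by
    refine (Nat.card_congr
      { toFun := fun v => ⟨g • (v : W), hi1 g _ v.2.1, fun a ha => by
          have := hi0 g _ (v.2.2 _ (mem_conjSub.1 ha))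
          rwa [smul_sub, ← mul_smul, show g * (g⁻¹ * a * g) = a * g by group, mul_smul] at this⟩
        invFun := fun v => ⟨g⁻¹ • (v : W), hi1 _ _ v.2.1, fun a ha => by
          have := hi0 g⁻¹ _ (v.2.2 _ (conj_mem_conjSub (g := g) ha))
          rwa [smul_sub, ← mul_smul, show g⁻¹ * (g * a * g⁻¹) = a * g⁻¹ by group, mul_smul] at this⟩
        left_inv := fun v => Subtype.ext (inv_smul_smul g (v : W))
        right_inv := fun v => Subtype.ext (smul_inv_smul g (v : W)) }).symm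
  have hFAcard : Nat.card ↥W1 * Nat.card ↥W0 = Nat.card ↥(FA A) * Nat.card ↥(FA A) := by
    have := card_sup_mul_card_inf (FA A) (FA (conjSub g A))
    rwa [hFAsup, hFAinf, hcFA] at this
  have hFAne : FA A ≠ W1 := fun e => h01.ne (by
    have e' : FA (conjSub g A) = W1 := AddSubgroup.eq_of_le_of_card_ge (hFA1 _) (by rw [hcFA, e])
    rw [← hFAinf, e, e', inf_idem])
  -- the part of the offender trivial on the section
  have hKA : K ⊔ A ≠ ⊤ := by
    intro htop
    have h1 : FA A ≤ FA (K ⊔ A) := fun w hw => ⟨hw.1, fun x hx => by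
      rw [← SetLike.mem_coe, Subgroup.normal_mul] at hx
      obtain ⟨k, hk, a, ha, rfl⟩ := hx
      rw [← sub_add_sub_cancel ((k * a) • w) (a • w) w, mul_smul]
      exact add_mem (hk _ (hi1 a w hw.1)) (hw.2 a ha)⟩
    rw [hallfix _ htop] at h1
    have e1 : FA A = W0 := le_antisymm h1 (hFA0 A)
    have e2 : FA (conjSub g A) = W0 := (AddSubgroup.eq_of_le_of_card_ge (hFA0 _) (by rw [hcFA, e1])).symm
    exact h01.ne (by rw [← hFAsup, e1, e2, sup_idem])
  have hKM : K ≤ Mx := le_sup_left.trans (h.sub _ le_sup_right hKA)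
  have hBS : A ⊓ K ≤ S := by
    rintro b ⟨hb, hbK⟩ w
    have hle : (⊤ : AddSubgroup W) ≤
        U.comap (DistribSMul.toAddMonoidHom W b - AddMonoidHom.id W) := by
      rw [← h.gens, AddSubgroup.closure_le]
      rintro _ ⟨x, y, hy, rfl⟩
      show b • x • y - x • y ∈ U
      by_cases hx : x ∈ Mx
      · rw [h.fixY b hb _ (h.stabY x hx y hy), sub_self]; exact zero_mem U
      · refine htwo hx _ (hquadC hb _) ?_
        have hy' : (x⁻¹ * b * x) • y ∈ Y :=
          h.stabY _ (hKM (by simpa using hKn.conj_mem b hbK x⁻¹)) y hy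
        rw [show b • x • y - x • y = x • ((x⁻¹ * b * x) • y - y) by
          rw [smul_sub, ← mul_smul, ← mul_smul]; group]
        exact smul_mem_fx_conj (hYC (sub_mem hy' hy))
    exact hle (AddSubgroup.mem_top w)
  have hB2 : Nat.card ↥(A ⊓ K) * Nat.card ↥(A ⊓ K) ≤ Nat.card ↥S := by
    rw [← Nat.card_prod]
    refine Nat.card_le_card_of_injective
      (fun p => (⟨(p.1 : X) * (g * p.2 * g⁻¹), mul_mem (hBS p.1.2) (hSn.conj_mem _ (hBS p.2.2) g)⟩ : ↥S))
      fun p q e => ?_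
    have e1 : (p.1 : X) * (g * p.2 * g⁻¹) = (q.1 : X) * (g * q.2 * g⁻¹) := congrArg Subtype.val e
    have e2 : (q.1 : X)⁻¹ * p.1 = g * ((q.2 : X) * (p.2 : X)⁻¹) * g⁻¹ := by
      calc (q.1 : X)⁻¹ * p.1 = (q.1 : X)⁻¹ * ((p.1 : X) * (g * p.2 * g⁻¹)) * (g * (p.2 : X)⁻¹ * g⁻¹) := by group
        _ = _ := by rw [e1]; group
    have h1 : (q.1 : X)⁻¹ * p.1 ∈ A := mul_mem (inv_mem q.1.2.1) p.1.2.1
    have h2 : (q.1 : X)⁻¹ * p.1 ∈ conjSub g A := by
      rw [e2]; exact conj_mem_conjSub (mul_mem q.2.2.1 (inv_mem p.2.2.1))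
    have h3 : (q.1 : X)⁻¹ * p.1 = 1 := h.faithful _ fun w => by
      obtain ⟨c, hc, c', hc', rfl⟩ := AddSubgroup.mem_sup.1 (hsum.symm ▸ AddSubgroup.mem_top w : w ∈ C ⊔ C')
      rw [smul_add, hc _ h1, hc' _ h2]
    have h4 : (q.2 : X) * (p.2 : X)⁻¹ = 1 := conj_eq_one_iff.1 (e2.symm.trans h3)
    exact Prod.ext (Subtype.ext (inv_mul_eq_one.1 h3).symm) (Subtype.ext (mul_inv_eq_one.1 h4).symm)
  -- the count
  have hcount : Nat.card ↥(A ⊓ K) * Nat.card ↥W1 ≤ Nat.card ↥A * Nat.card ↥(FA A) := by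
    have hkey := key_bound h.exp h.faithful U hU S (fun s => Iff.rfl) hweakS W0 W1 hU0 h01 hi0 hi1 hsimple
    have hoff : Nat.card W ≤ Nat.card ↥A * Nat.card ↥C := h.off
    set b := Nat.card ↥(A ⊓ K)
    set w₀ := Nat.card ↥W0
    set w₁' := Nat.card ↥W1
    set f := Nat.card ↥(FA A)
    set u := Nat.card ↥U
    set c := Nat.card ↥C
    set n := Nat.card W
    set a := Nat.card ↥A
    have hc0 : 0 < c := Nat.card_pos
    have hw0 : 0 < w₀ := Nat.card_pos
    have e1 : (b * w₁') ^ 2 * u * w₀ ≤ n * w₀ * f ^ 2 := by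
      calc (b * w₁') ^ 2 * u * w₀ = b * b * w₁' * u * (w₁' * w₀) := by ring
        _ ≤ Nat.card ↥S * w₁' * u * (w₁' * w₀) := by gcongr
        _ ≤ n * w₀ * (w₁' * w₀) := Nat.mul_le_mul_right _ hkey
        _ = _ := by rw [hFAcard]; ring
    have e2 : (b * w₁') ^ 2 * u ≤ n * f ^ 2 := Nat.le_of_mul_le_mul_right (c := w₀)
      (e1.trans (le_of_eq (by ring))) hw0
    have e3 : (b * w₁') ^ 2 * (c * c) ≤ (a * f) ^ 2 * (c * c) := by
      calc (b * w₁') ^ 2 * (c * c) = (b * w₁') ^ 2 * u * n := by rw [← hWU]; ring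
        _ ≤ n * f ^ 2 * n := Nat.mul_le_mul_right _ e2
        _ ≤ a * c * f ^ 2 * (a * c) := by gcongr
        _ = _ := by ring
    exact (Nat.pow_le_pow_iff_left two_ne_zero).1
      (Nat.le_of_mul_le_mul_right e3 (Nat.mul_pos hc0 hc0))
  -- the offender on the section
  letI := quotAct W0 hi0
  let π := QuotientAddGroup.mk' W0
  set Z1 := W1.map π with hZ1
  have hZinv : ∀ x ∈ (⊤ : Subgroup X), ∀ z ∈ Z1, x • z ∈ Z1 := by
    rintro x _ _ ⟨w, hw, rfl⟩
    exact ⟨x • w, hi1 x w hw, rfl⟩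
  haveI := finite_img ⊤ Z1 hZinv
  have hlift : ∀ e ∈ A, ∃ x : ↥(Img ⊤ Z1 hZinv), Acts Z1.subtype x e :=
    fun e _ => ⟨_, acts_toImg ⊤ Z1 hZinv ⟨e, mem_top e⟩⟩
  have hfaith := img_faithful ⊤ Z1 hZinv
  have hmk : ∀ v w : W, π v = π w ↔ v - w ∈ W0 := fun v w => QuotientAddGroup.eq_iff_sub_mem
  have hfixer : fixerIn A Z1 = A ⊓ K := by
    ext e
    refine ⟨fun he => ⟨he.1, fun w hw => (hmk _ _).1 (he.2 _ ⟨w, hw, rfl⟩)⟩, fun he => ⟨he.1, ?_⟩⟩
    rintro _ ⟨w, hw, rfl⟩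
    exact (hmk _ _).2 (he.2 w hw)
  have hfix : Z1 ⊓ fx (W ⧸ W0) A = (FA A).map π := by
    ext q
    constructor
    · rintro ⟨⟨w, hw, rfl⟩, hq⟩
      exact ⟨w, ⟨hw, fun a ha => (hmk _ _).1 (hq a ha)⟩, rfl⟩
    · rintro ⟨w, hw, rfl⟩
      exact ⟨⟨w, hw.1, rfl⟩, fun a ha => (hmk _ _).2 (hw.2 a ha)⟩
  have hoffF : OffSub Z1 A := by
    unfold OffSub
    rw [hfixer, hfix]
    refine Nat.le_of_mul_le_mul_right (c := Nat.card ↥W0) ?_ Nat.card_pos
    rw [mul_right_comm, mul_assoc (Nat.card ↥A), ← card_map_mk_mul W0 h01.le, ← card_map_mk_mul W0 (hFA0 A),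
      mul_comm]
    exact hcount
  have hpush := offOn_push (X := ↥(Img ⊤ Z1 hZinv)) (ι := Z1.subtype) hlift hfaith Subtype.val_injective
    (by rwa [AddSubgroup.range_subtype])
  have hexpF : ∀ q : ↥Z1, 2 • q = 0 := fun q => Subtype.ext <| by
    rw [AddSubgroup.coe_nsmul]
    obtain ⟨w, -, hw⟩ := q.2
    rw [← hw, ← map_nsmul, h.exp, map_zero]
    rfl
  have hfreeF : ¬ Involves (Equiv.Perm (Fin 3)) ↥(Img ⊤ Z1 hZinv) := fun hi =>
    h.free (CfsgLib.LocalEven.Offender.involves_of_injective (⊤ : Subgroup X).subtype Subtype.val_injective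
      (CfsgLib.LocalEven.Offender.involves_of_surjective _ (toImg_surjective ⊤ Z1 hZinv) hi))
  haveI : Nontrivial ↥Z1 := by
    rw [AddSubgroup.nontrivial_iff_ne_bot]
    intro e
    refine h01.not_ge fun w hw => ?_
    have h1 : π w ∈ Z1 := ⟨w, hw, rfl⟩
    rw [e, AddSubgroup.mem_bot] at h1
    exact (QuotientAddGroup.eq_zero_iff w).1 h1
  have hcoreF : pCore 2 ↥(Img ⊤ Z1 hZinv) = ⊥ := by
    obtain ⟨q₀, hq₀, hq₀'⟩ := exists_fixed_ne_zero hexpF
      (CfsgLib.Cores.isPGroup_pCore (G := ↥(Img ⊤ Z1 hZinv)) 2)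
    haveI := CfsgLib.Cores.pCore_characteristic (G := ↥(Img ⊤ Z1 hZinv)) 2
    set P := pCore 2 ↥(Img ⊤ Z1 hZinv) with hP
    let Z : AddSubgroup W := ((fx ↥Z1 P).map Z1.subtype).comap π
    have hZi : ∀ x : X, ∀ w ∈ Z, x • w ∈ Z := by
      rintro x w ⟨q, hq, e⟩
      refine ⟨toImg ⊤ Z1 hZinv ⟨x, mem_top x⟩ • q, fun p hp => ?_, congrArg (x • ·) e⟩
      have hn : P.Normal := inferInstance
      have h1 := hq _ (hn.conj_mem p hp (toImg ⊤ Z1 hZinv ⟨x, mem_top x⟩)⁻¹)
      rwa [inv_inv, mul_smul, mul_smul, inv_smul_eq_iff] at h1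
    rcases hsimple Z hZi (fun w hw => ⟨0, zero_mem _, ((QuotientAddGroup.eq_zero_iff w).2 hw).symm⟩)
      (fun w ⟨q, _, e⟩ => by
        obtain ⟨w', hw', e'⟩ := q.2
        have h1 : w - w' ∈ W0 := (hmk w w').1 ((e.symm.trans e'.symm))
        rw [← sub_add_cancel w w']
        exact add_mem (h01.le h1) hw') with e | e
    · exfalso
      obtain ⟨w, -, hwq⟩ := q₀.2
      have hwZ : w ∈ Z := ⟨q₀, hq₀, hwq.symm⟩
      rw [e] at hwZ
      exact hq₀' (Subtype.ext (hwq.symm.trans ((QuotientAddGroup.eq_zero_iff w).2 hwZ)))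
    · refine (eq_bot_iff_forall _).2 fun p hp => hfaith p fun q => ?_
      obtain ⟨w, hw, hwq⟩ := q.2
      obtain ⟨q', hq', e'⟩ := (e.symm ▸ hw : w ∈ Z)
      rw [show q = q' from Subtype.ext (hwq.symm.trans e'.symm)]
      exact hq' p hp
  have hlt : Nat.card ↥(Img ⊤ Z1 hZinv) + Nat.card ↥Z1 < Nat.card X + Nat.card W := by
    refine add_lt_add_of_le_of_lt (card_img_le ⊤ Z1 hZinv) ((Nat.card_le_card_of_injective _
      Subtype.val_injective).trans_lt ?_)
    rw [AddSubgroup.card_eq_card_quotient_mul_card_addSubgroup W0]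
    refine lt_mul_of_one_lt_right Nat.card_pos ?_
    exact (AddSubgroup.one_lt_card_iff_ne_bot W0).2 fun e => hUne (le_bot_iff.1 (e ▸ hU0))
  have hbot := IH _ hlt ↥(Img ⊤ Z1 hZinv) ↥Z1 le_rfl hfreeF hfaith hexpF hcoreF _
    (h.elem.push hfaith Subtype.val_injective) hpush
  refine hFAne (le_antisymm (hFA1 A) fun w hw => ⟨hw, fun a ha => (hmk _ _).1 ?_⟩)
  exact fixes_of_push_eq_bot hlift hbot ha ⟨π w, w, hw, rfl⟩

end CoreHyp

end CfsgLib.NoFF
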