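import Cfsg.Agent.Lib.NoFF.Idempotent

/-!
The order of a space of homomorphisms stable under precomposition, against the order of the source, when
no part of it has a small annihilator.
-/

set_option autoImplicit false
set_option linter.unusedSectionVars false
set_option linter.style.haveILetI false

namespace CfsgLib.NoFF

theorem card_hom_zmod_two {N : Type*} [AddCommGroup N] [Finite N] (hN : ∀ n : N, 2 • n = 0) :
    Nat.card (N →+ ZMod 2) = Nat.card N := by
  haveI : Fact (Nat.Prime 2) := ⟨Nat.prime_two⟩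
  letI : Module (ZMod 2) N := AddCommGroup.zmodModule hN
  haveI : Module.Finite (ZMod 2) N := Module.Finite.of_finite
  rw [Nat.card_congr (⟨fun f => f.toZModLinearMap 2, fun f => f.toAddMonoidHom, fun _ => rfl, fun _ => rfl⟩ :
      (N →+ ZMod 2) ≃ Module.Dual (ZMod 2) N),
    Module.natCard_eq_pow_finrank (K := ZMod 2), Module.natCard_eq_pow_finrank (K := ZMod 2) (V := N),
    Subspace.dual_finrank_eq]

theorem card_split {N : Type*} [AddCommGroup N] [Finite N] (T0 T1 : AddSubgroup N) (e : N →+ N)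
    (he : ∀ n, e (e n) = e n) (h1 : ∀ n, n ∈ T1 ↔ e n = n) (h0 : ∀ n, n ∈ T0 ↔ e n = 0) :
    Nat.card N = Nat.card ↥T1 * Nat.card ↥T0 := by
  rw [← Nat.card_prod]
  exact Nat.card_congr
    { toFun := fun n => (⟨e n, (h1 _).2 (he n)⟩, ⟨n - e n, (h0 _).2 (by rw [map_sub, he, sub_self])⟩)
      invFun := fun p => (p.1 : N) + (p.2 : N)
      left_inv := fun n => add_sub_cancel (e n) n
      right_inv := fun p => by
        have e1 : e ((p.1 : N) + p.2) = p.1 := by rw [map_add, (h1 _).1 p.1.2, (h0 _).1 p.2.2, add_zero]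
        exact Prod.ext (Subtype.ext e1) (Subtype.ext (by
          show (p.1 : N) + p.2 - e ((p.1 : N) + p.2) = p.2
          rw [e1, add_sub_cancel_left])) }

variable {Q H : Type*} [AddCommGroup Q] [AddCommGroup H]

/-- The endomorphisms preserving two subgroups and a space of homomorphisms. -/
def stableRing (P0 P1 : AddSubgroup Q) (Sh : AddSubgroup (Q →+ H)) : Subring (AddMonoid.End Q) where
  carrier := {a | (∀ q ∈ P0, a q ∈ P0) ∧ (∀ q ∈ P1, a q ∈ P1) ∧ ∀ φ ∈ Sh, φ.comp a ∈ Sh}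
  one_mem' := ⟨fun q hq => hq, fun q hq => hq, fun φ hφ => hφ⟩
  mul_mem' := fun {a b} ha hb => ⟨fun q hq => ha.1 _ (hb.1 q hq), fun q hq => ha.2.1 _ (hb.2.1 q hq),
    fun φ hφ => hb.2.2 _ (ha.2.2 φ hφ)⟩
  zero_mem' := ⟨fun q _ => zero_mem P0, fun q _ => zero_mem P1, fun φ _ => by
    rw [show φ.comp (0 : AddMonoid.End Q) = 0 from AddMonoidHom.ext fun q => map_zero φ]
    exact zero_mem Sh⟩
  add_mem' := fun {a b} ha hb => ⟨fun q hq => add_mem (ha.1 q hq) (hb.1 q hq),
    fun q hq => add_mem (ha.2.1 q hq) (hb.2.1 q hq), fun φ hφ => by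
    rw [show φ.comp (a + b) = φ.comp a + φ.comp b from AddMonoidHom.ext fun q => map_add φ (a q) (b q)]
    exact add_mem (ha.2.2 φ hφ) (hb.2.2 φ hφ)⟩
  neg_mem' := fun {a} ha => ⟨fun q hq => neg_mem (ha.1 q hq), fun q hq => neg_mem (ha.2.1 q hq),
    fun φ hφ => by
    rw [show φ.comp (-a) = -(φ.comp a) from AddMonoidHom.ext fun q => map_neg φ (a q)]
    exact neg_mem (ha.2.2 φ hφ)⟩

variable {P0 P1 : AddSubgroup Q} {Sh : AddSubgroup (Q →+ H)}

/-- Precomposition by an element of the ring. -/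
def precompHom (a : ↥(stableRing P0 P1 Sh)) : ↥Sh →+ ↥Sh where
  toFun φ := ⟨(φ : Q →+ H).comp (a : AddMonoid.End Q), a.2.2.2 φ φ.2⟩
  map_zero' := Subtype.ext (AddMonoidHom.ext fun _ => rfl)
  map_add' _ _ := Subtype.ext (AddMonoidHom.ext fun _ => rfl)

/-- The dual module. -/
@[reducible]
def dualModule : Module ↥(stableRing P0 P1 Sh) (↥Sh →+ ZMod 2) where
  smul a d := d.comp (precompHom a)
  one_smul d := AddMonoidHom.ext fun φ => rfl
  mul_smul a b d := AddMonoidHom.ext fun φ => rfl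
  smul_zero a := AddMonoidHom.ext fun φ => rfl
  smul_add a d d' := AddMonoidHom.ext fun φ => rfl
  add_smul a b d := AddMonoidHom.ext fun φ => by
    show d (precompHom (a + b) φ) = d (precompHom a φ) + d (precompHom b φ)
    rw [← map_add]
    exact congrArg d (Subtype.ext (AddMonoidHom.ext fun q =>
      map_add (φ : Q →+ H) ((a : AddMonoid.End Q) q) ((b : AddMonoid.End Q) q)))
  zero_smul d := AddMonoidHom.ext fun φ => by
    show d (precompHom 0 φ) = 0
    rw [← map_zero d]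
    exact congrArg d (Subtype.ext (AddMonoidHom.ext fun q => map_zero (φ : Q →+ H)))

/-- The bound. -/
theorem algebra_bound [Finite Q] [Finite H] (hH : ∀ h : H, 2 • h = 0) (Θ : Set (AddMonoid.End Q))
    (hΘ : Θ ⊆ stableRing P0 P1 Sh) (hle : P0 < P1)
    (hsimple : ∀ Z : AddSubgroup Q, (∀ a ∈ Θ, ∀ q ∈ Z, a q ∈ Z) → P0 ≤ Z → Z ≤ P1 → Z = P0 ∨ Z = P1)
    (hweak : ∀ (T : AddSubgroup ↥Sh) (Z : AddSubgroup Q),
      (∀ φ ∈ T, ∀ q ∈ Z, (φ : Q →+ H) q = 0) → Nat.card ↥T ≠ 1 → Nat.card ↥T * Nat.card ↥Z < Nat.card Q) :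
    Nat.card ↥Sh * Nat.card ↥P1 ≤ Nat.card Q * Nat.card ↥P0 := by
  classical
  letI := dualModule (P0 := P0) (P1 := P1) (Sh := Sh)
  haveI : Finite (AddMonoid.End Q) := DFunLike.finite _
  haveI : Finite (Q →+ H) := DFunLike.finite _
  haveI : Finite (↥Sh →+ ZMod 2) := DFunLike.finite _
  let Q0 : Submodule ↥(stableRing P0 P1 Sh) Q :=
    { toAddSubmonoid := P0.toAddSubmonoid
      smul_mem' := fun a q hq => a.2.1 q hq }
  let Q1 : Submodule ↥(stableRing P0 P1 Sh) Q :=
    { toAddSubmonoid := P1.toAddSubmonoid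
      smul_mem' := fun a q hq => a.2.2.1 q hq }
  have hQle : Q0 ≤ Q1 := fun q hq => hle.le hq
  have hcov : Q0 ⋖ Q1 := by
    refine ⟨lt_of_le_not_ge hQle fun h => hle.not_ge fun q hq => h hq, fun S h0 h1 => ?_⟩
    rcases hsimple S.toAddSubgroup (fun a ha q hq => S.smul_mem ⟨a, hΘ ha⟩ hq) (fun q hq => h0.le hq)
      (fun q hq => h1.le hq) with e | e
    · exact h0.not_ge fun q hq => show q ∈ P0 from e ▸ hq
    · exact h1.not_ge fun q hq => show q ∈ S.toAddSubgroup from e.symm ▸ hq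
  let F := ↥Q1 ⧸ Q0.comap Q1.subtype
  haveI : IsSimpleModule ↥(stableRing P0 P1 Sh) F := (covBy_iff_quot_is_simple hQle).1 hcov
  haveI : Finite F := Quotient.finite _
  obtain ⟨e, he, he1, he0⟩ := exists_separating ↥(stableRing P0 P1 Sh) F
  have hee : ∀ q : Q, e • e • q = e • q := fun q => by rw [← mul_smul, he]
  let E : Q →+ Q := (e : AddMonoid.End Q)
  have hsplit : Nat.card Q = Nat.card ↥(fixElt e Q) * Nat.card ↥E.ker :=
    card_split E.ker (fixElt e Q) E hee (fun _ => Iff.rfl) (fun _ => Iff.rfl)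
  have hpre : ∀ φ, precompHom e (precompHom e φ) = precompHom e φ := fun φ =>
    Subtype.ext (AddMonoidHom.ext fun q => congrArg (φ : Q →+ H) (hee q))
  let T1 : AddSubgroup ↥Sh :=
    { carrier := {φ | precompHom e φ = φ}
      zero_mem' := map_zero _
      add_mem' := fun {a b} ha hb => by
        show precompHom e (a + b) = a + b
        rw [map_add, ha, hb]
      neg_mem' := fun {a} ha => by
        show precompHom e (-a) = -a
        rw [map_neg, ha] }
  have hsplitS : Nat.card ↥Sh = Nat.card ↥T1 * Nat.card ↥(precompHom e).ker :=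
    card_split (precompHom e).ker T1 (precompHom e) hpre (fun _ => Iff.rfl) (fun _ => Iff.rfl)
  have hexpT : ∀ φ : ↥T1, 2 • φ = 0 := fun φ =>
    Subtype.ext (Subtype.ext (AddMonoidHom.ext fun q => hH _))
  have hT1 : Nat.card ↥T1 = Nat.card ↥(fixElt e (↥Sh →+ ZMod 2)) := by
    rw [← card_hom_zmod_two hexpT]
    exact Nat.card_congr
      { toFun := fun d => ⟨d.comp ((precompHom e).codRestrict T1 fun φ => hpre φ),
          AddMonoidHom.ext fun φ => congrArg d (Subtype.ext (hpre φ))⟩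
        invFun := fun d => (d : ↥Sh →+ ZMod 2).comp T1.subtype
        left_inv := fun d => AddMonoidHom.ext fun φ => congrArg d (Subtype.ext φ.2)
        right_inv := fun d => Subtype.ext (AddMonoidHom.ext fun φ => (DFunLike.congr_fun d.2 φ :)) }
  obtain ⟨j, hj⟩ := card_fixElt he he1 he0 (↥Sh →+ ZMod 2)
  obtain ⟨k, hk⟩ := card_fixElt he he1 he0 Q
  have hF : Nat.card ↥P1 = Nat.card F * Nat.card ↥P0 := by
    show Nat.card ↥Q1 = Nat.card F * Nat.card ↥Q0
    rw [Submodule.card_eq_card_quotient_mul_card (Q0.comap Q1.subtype),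
      Nat.card_congr (Submodule.comapSubtypeEquivOfLe hQle).toEquiv, mul_comm]
  haveI := IsSimpleModule.nontrivial ↥(stableRing P0 P1 Sh) F
  have hF1 : 1 < Nat.card F := Finite.one_lt_card
  have hk0 : k ≠ 0 := fun h0 => by
    rw [h0, pow_zero] at hk
    have hbot : fixElt e Q = ⊥ := AddSubgroup.eq_bot_of_card_le _ hk.le
    obtain ⟨f, hf⟩ := exists_ne (0 : F)
    obtain ⟨q, rfl⟩ := Submodule.mkQ_surjective (Q0.comap Q1.subtype) f
    refine hf ?_
    rw [← he1 (Submodule.mkQ _ q), ← LinearMap.map_smul]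
    have h1 : e • (q : Q) ∈ fixElt e Q := hee _
    rw [hbot, AddSubgroup.mem_bot] at h1
    rw [show e • q = 0 from Subtype.ext h1, map_zero]
  have hb1 : Nat.card ↥T1 * Nat.card F ≤ Nat.card ↥(fixElt e Q) := by
    rw [hT1, hj, hk, ← pow_succ]
    refine Nat.pow_le_pow_right hF1.le ?_
    by_contra hc
    have hjk : Nat.card F ^ k ≤ Nat.card F ^ j := Nat.pow_le_pow_right hF1.le (by omega)
    have hT : Nat.card ↥T1 ≠ 1 := by
      rw [hT1, hj]
      exact (Nat.one_lt_pow (by omega) hF1).ne'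
    have h1 := hweak T1 E.ker (fun φ hφ q hq => by
      rw [← (hφ : precompHom e φ = φ)]
      show (φ : Q →+ H) (E q) = 0
      rw [(hq : E q = 0), map_zero]) hT
    rw [hsplit, hT1, hj, hk] at h1
    exact (Nat.lt_of_mul_lt_mul_right h1).not_ge hjk
  have hb0 : Nat.card ↥(precompHom e).ker ≤ Nat.card ↥E.ker := by
    by_cases hT : Nat.card ↥(precompHom e).ker = 1
    · rw [hT]; exact Nat.one_le_iff_ne_zero.2 Nat.card_pos.ne'
    have h1 := hweak (precompHom e).ker (fixElt e Q) (fun φ hφ q hq => by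
      rw [← (hq : e • q = q)]
      exact DFunLike.congr_fun (congrArg Subtype.val (hφ : precompHom e φ = 0)) q) hT
    rw [hsplit, mul_comm] at h1
    exact (Nat.lt_of_mul_lt_mul_left h1).le
  rw [hF, hsplit, hsplitS]
  calc Nat.card ↥T1 * Nat.card ↥(precompHom e).ker * (Nat.card F * Nat.card ↥P0)
      = Nat.card ↥T1 * Nat.card F * Nat.card ↥(precompHom e).ker * Nat.card ↥P0 := by ring
    _ ≤ _ := Nat.mul_le_mul_right _ (Nat.mul_le_mul hb1 hb0)

end CfsgLib.NoFF
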