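import Mathlib

/-!
An idempotent of a finite ring separating a simple module from all the others.
-/

set_option autoImplicit false
set_option linter.unusedSectionVars false
set_option linter.style.haveILetI false

namespace CfsgLib.NoFF

theorem exists_pow_idem {M : Type*} [Monoid M] [Finite M] (r : M) : ∃ k, 0 < k ∧ r ^ k * r ^ k = r ^ k := by
  obtain ⟨i, j, hij, e⟩ : ∃ i j, i < j ∧ r ^ i = r ^ j := by
    obtain ⟨i, j, hne, e⟩ := Finite.exists_ne_map_eq_of_infinite (fun n : ℕ => r ^ n)
    rcases lt_or_gt_of_ne hne with h | h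
    · exact ⟨i, j, h, e⟩
    · exact ⟨j, i, h, e.symm⟩
  obtain ⟨d, hd, rfl⟩ : ∃ d, 0 < d ∧ j = i + d := ⟨j - i, by omega, by omega⟩
  have hper : ∀ m k, i ≤ k → r ^ (k + m * d) = r ^ k := by
    intro m
    induction m with
    | zero => intro k _; simp
    | succ m ih =>
      intro k hk
      rw [show k + (m + 1) * d = (k + d) + m * d by ring, ih (k + d) (by omega),
        show k + d = (k - i) + (i + d) by omega, pow_add, ← e, ← pow_add, show k - i + i = k by omega]
  refine ⟨(i + 1) * d, Nat.mul_pos i.succ_pos hd, ?_⟩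
  rw [← pow_add]
  exact hper (i + 1) ((i + 1) * d) (by nlinarith)

variable {R : Type*} [Ring R] {F : Type*} [AddCommGroup F] [Module R F] [IsSimpleModule R F] [Finite F]

theorem exists_zero_not_zero {G : Type*} [AddCommGroup G] [Module R G] [IsSimpleModule R G] [Finite G]
    (hne : IsEmpty (F ≃ₗ[R] G)) : ∃ r : R, (∀ g : G, r • g = 0) ∧ ∃ f : F, r • f ≠ 0 := by
  classical
  by_contra hc
  push Not at hc
  haveI := IsSimpleModule.nontrivial R F
  haveI : Fintype G := Fintype.ofFinite G
  obtain ⟨f0, hf0⟩ := exists_ne (0 : F)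
  suffices key : ∀ s : Finset G, ∃ r : R, (∀ g ∈ s, r • g = 0) ∧ r • f0 ≠ 0 by
    obtain ⟨r, h1, h2⟩ := key Finset.univ
    exact h2 (hc r (fun g => h1 g (Finset.mem_univ g)) f0)
  intro s
  induction s using Finset.induction with
  | empty => exact ⟨1, by simp, by rwa [one_smul]⟩
  | insert g s _ ih =>
    by_contra hins
    push Not at hins
    obtain ⟨r0, hr0, hr0'⟩ := ih
    let I : Submodule R R :=
      { carrier := {r | ∀ x ∈ s, r • x = 0}
        add_mem' := fun {a b} ha hb x hx => by rw [add_smul, ha x hx, hb x hx, add_zero]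
        zero_mem' := fun x _ => zero_smul R x
        smul_mem' := fun c {a} ha x hx => by rw [smul_eq_mul, mul_smul, ha x hx, smul_zero] }
    let φ : ↥I →ₗ[R] G := (LinearMap.toSpanSingleton R G g).comp I.subtype
    let ψ : ↥I →ₗ[R] F := (LinearMap.toSpanSingleton R F f0).comp I.subtype
    have hle : LinearMap.ker φ ≤ LinearMap.ker ψ := fun a ha => by
      refine hins (a : R) fun x hx => ?_
      rcases Finset.mem_insert.1 hx with rfl | hx
      · exact ha
      · exact a.2 x hx
    have hψ : ψ ⟨r0, hr0⟩ ≠ 0 := hr0'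
    have hφ : φ ⟨r0, hr0⟩ ≠ 0 := fun h => hψ (hle h)
    have hs : Function.Surjective φ :=
      LinearMap.surjective_of_ne_zero fun h => hφ (by rw [h]; rfl)
    let χ : G →ₗ[R] F :=
      ((LinearMap.ker φ).liftQ ψ hle).comp (φ.quotKerEquivOfSurjective hs).symm.toLinearMap
    have hχ : χ ≠ 0 := fun h => hψ (by
      have h1 := LinearMap.congr_fun h (φ ⟨r0, hr0⟩)
      rw [LinearMap.zero_apply] at h1
      simpa [χ, LinearMap.quotKerEquivOfSurjective_symm_apply] using h1)
    exact hne.false (LinearEquiv.ofBijective χ (LinearMap.bijective_of_ne_zero hχ)).symm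

theorem exists_one_zero {G : Type*} [AddCommGroup G] [Module R G] [IsSimpleModule R G] [Finite G]
    (hne : IsEmpty (F ≃ₗ[R] G)) : ∃ r : R, (∀ f : F, r • f = f) ∧ ∀ g : G, r • g = 0 := by
  classical
  haveI : Fintype F := Fintype.ofFinite F
  obtain ⟨c, hc, f1, hf1⟩ := exists_zero_not_zero (R := R) hne
  suffices key : ∀ (s : Finset F) (r : R), ∃ a : R, (∀ g : G, a • g = 0) ∧ ∀ f ∈ s, a • f = r • f by
    obtain ⟨a, h1, h2⟩ := key Finset.univ 1
    exact ⟨a, fun f => (h2 f (Finset.mem_univ f)).trans (one_smul R f), h1⟩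
  intro s
  induction s using Finset.induction with
  | empty => exact fun r => ⟨0, fun g => zero_smul R g, by simp⟩
  | insert f s _ ih =>
    intro r
    obtain ⟨a, ha, has⟩ := ih r
    by_cases hz : ∀ b : R, (∀ x ∈ s, b • x = 0) → b • f = 0
    · refine ⟨a, ha, fun x hx => ?_⟩
      rcases Finset.mem_insert.1 hx with rfl | hx
      · have h1 := hz (r - a) fun y hy => by rw [sub_smul, has y hy, sub_self]
        rw [sub_smul, sub_eq_zero] at h1
        exact h1.symm
      · exact has x hx
    · push Not at hz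
      obtain ⟨b, hb, hbf⟩ := hz
      let J : Submodule R R :=
        { carrier := {r | (∀ g : G, r • g = 0) ∧ ∀ x ∈ s, r • x = 0}
          add_mem' := fun {u v} hu hv => ⟨fun g => by rw [add_smul, hu.1 g, hv.1 g, add_zero],
            fun x hx => by rw [add_smul, hu.2 x hx, hv.2 x hx, add_zero]⟩
          zero_mem' := ⟨fun g => zero_smul R g, fun x _ => zero_smul R x⟩
          smul_mem' := fun c {u} hu => ⟨fun g => by rw [smul_eq_mul, mul_smul, hu.1 g, smul_zero],
            fun x hx => by rw [smul_eq_mul, mul_smul, hu.2 x hx, smul_zero]⟩ }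
      obtain ⟨d, hd⟩ := IsSimpleModule.toSpanSingleton_surjective R hbf f1
      have hcdb : c * (d * b) ∈ J := ⟨fun g => by rw [mul_smul, hc],
        fun x hx => by rw [mul_smul, mul_smul, hb x hx, smul_zero, smul_zero]⟩
      have hne0 : J.map (LinearMap.toSpanSingleton R F f) ≠ ⊥ := by
        intro e
        have h1 := Submodule.mem_map_of_mem (f := LinearMap.toSpanSingleton R F f) hcdb
        rw [e, Submodule.mem_bot, LinearMap.toSpanSingleton_apply, mul_smul, mul_smul] at h1
        rw [LinearMap.toSpanSingleton_apply] at hd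
        rw [hd] at h1
        exact hf1 h1
      have htop := (eq_bot_or_eq_top (J.map (LinearMap.toSpanSingleton R F f))).resolve_left hne0
      obtain ⟨b', hb', e⟩ := (htop.symm ▸ Submodule.mem_top :
        r • f - a • f ∈ J.map (LinearMap.toSpanSingleton R F f))
      rw [LinearMap.toSpanSingleton_apply] at e
      refine ⟨a + b', fun g => by rw [add_smul, ha g, hb'.1 g, add_zero], fun x hx => ?_⟩
      rcases Finset.mem_insert.1 hx with rfl | hx
      · rw [add_smul, e, add_sub_cancel]
      · rw [add_smul, has x hx, hb'.2 x hx, add_zero]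

variable (R F) in
/-- An idempotent that is one on `F` and zero on every other simple module. -/
theorem exists_separating [Finite R] : ∃ e : R, e * e = e ∧ (∀ f : F, e • f = f) ∧
    ∀ I : Ideal R, I.IsMaximal → IsEmpty (F ≃ₗ[R] R ⧸ I) → ∀ x : R ⧸ I, e • x = 0 := by
  classical
  haveI : Finite (Ideal R) := Finite.of_injective (fun I : Ideal R => (I : Set R)) SetLike.coe_injective
  haveI : Fintype (Ideal R) := Fintype.ofFinite _
  suffices key : ∀ s : Finset (Ideal R), ∃ r : R, (∀ f : F, r • f = f) ∧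
      ∀ I ∈ s, I.IsMaximal → IsEmpty (F ≃ₗ[R] R ⧸ I) → ∀ x : R ⧸ I, r • x = 0 by
    obtain ⟨r, h1, h2⟩ := key Finset.univ
    obtain ⟨k, hk, he⟩ := exists_pow_idem r
    refine ⟨r ^ k, he, fun f => ?_, fun I hI hI' x => ?_⟩
    · clear he hk
      induction k with
      | zero => rw [pow_zero, one_smul]
      | succ k ih => rw [pow_succ, mul_smul, h1, ih]
    · obtain ⟨j, rfl⟩ := Nat.exists_eq_succ_of_ne_zero hk.ne'
      rw [pow_succ, mul_smul, h2 I (Finset.mem_univ I) hI hI', smul_zero]
  intro s
  induction s using Finset.induction with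
  | empty => exact ⟨1, fun f => one_smul R f, by simp⟩
  | insert I s _ ih =>
    obtain ⟨r, hr1, hr2⟩ := ih
    by_cases hI : I.IsMaximal ∧ IsEmpty (F ≃ₗ[R] R ⧸ I)
    · haveI : IsSimpleModule R (R ⧸ I) := isSimpleModule_iff_isCoatom.2 (Ideal.isMaximal_def.1 hI.1)
      haveI : Finite (R ⧸ I) := Quotient.finite _
      obtain ⟨r', h1, h2⟩ := exists_one_zero (R := R) hI.2
      refine ⟨r * r', fun f => by rw [mul_smul, h1, hr1], fun J hJ hJm hJe x => ?_⟩
      rcases Finset.mem_insert.1 hJ with rfl | hJ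
      · rw [mul_smul, h2, smul_zero]
      · rw [mul_smul, hr2 J hJ hJm hJe]
    · refine ⟨r, hr1, fun J hJ hJm hJe x => ?_⟩
      rcases Finset.mem_insert.1 hJ with rfl | hJ
      · exact absurd ⟨hJm, hJe⟩ hI
      · exact hr2 J hJ hJm hJe x

/-- The points fixed by a ring element. -/
def fixElt (e : R) (N : Type*) [AddCommGroup N] [Module R N] : AddSubgroup N where
  carrier := {n | e • n = n}
  add_mem' := fun {a b} ha hb => by
    show e • (a + b) = a + b
    rw [smul_add, ha, hb]
  zero_mem' := smul_zero e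
  neg_mem' := fun {a} ha => by
    show e • (-a) = -a
    rw [smul_neg, ha]

theorem mem_fixElt {e : R} {N : Type*} [AddCommGroup N] [Module R N] {n : N} :
    n ∈ fixElt e N ↔ e • n = n := Iff.rfl

/-- The fixed points of a separating idempotent have order a power of `|F|`. -/
theorem card_fixElt {e : R} (he : e * e = e) (h1 : ∀ f : F, e • f = f)
    (h0 : ∀ I : Ideal R, I.IsMaximal → IsEmpty (F ≃ₗ[R] R ⧸ I) → ∀ x : R ⧸ I, e • x = 0)
    (N : Type*) [AddCommGroup N] [Module R N] [Finite N] :
    ∃ j, Nat.card ↥(fixElt e N) = Nat.card F ^ j := by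
  classical
  suffices key : ∀ (m : ℕ) (P : Submodule R N), Nat.card ↥P = m →
      ∃ j, Nat.card ↥(fixElt e ↥P) = Nat.card F ^ j by
    obtain ⟨j, hj⟩ := key _ (⊤ : Submodule R N) rfl
    refine ⟨j, (Eq.trans ?_ hj)⟩
    exact Nat.card_congr
      { toFun := fun n => ⟨⟨(n : N), trivial⟩, Subtype.ext n.2⟩
        invFun := fun n => ⟨((n : ↥(⊤ : Submodule R N)) : N), congrArg Subtype.val n.2⟩
        left_inv := fun _ => rfl
        right_inv := fun _ => rfl }
  intro m
  induction m using Nat.strong_induction_on with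
  | _ m ih =>
    intro P hPm
    rcases subsingleton_or_nontrivial ↥P with hS | hS
    · exact ⟨0, by rw [pow_zero]; exact Nat.card_eq_one_iff_unique.2 ⟨inferInstance, inferInstance⟩⟩
    · haveI : Finite (Submodule R ↥P) :=
        Finite.of_injective (fun I : Submodule R ↥P => (I : Set ↥P)) SetLike.coe_injective
      obtain ⟨Q, hQ⟩ : ∃ Q : Submodule R ↥P, IsCoatom Q :=
        ⟨_, ((eq_top_or_exists_le_coatom (⊥ : Submodule R ↥P)).resolve_left bot_ne_top).choose_spec.1⟩
      have hlt : Nat.card ↥(Q.map P.subtype) < m := by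
        rw [← hPm, Nat.card_congr (Submodule.equivMapOfInjective _ P.subtype_injective Q).symm.toEquiv]
        refine lt_of_le_of_ne (Nat.card_le_card_of_injective _ Subtype.val_injective) fun e' => hQ.1 ?_
        rw [Submodule.eq_top_iff']
        intro x
        obtain ⟨y, rfl⟩ := ((Nat.bijective_iff_injective_and_card (Subtype.val : ↥Q → ↥P)).2
          ⟨Subtype.val_injective, e'⟩).2 x
        exact y.2
      obtain ⟨j, hj⟩ := ih _ hlt (Q.map P.subtype) rfl
      haveI : IsSimpleModule R (↥P ⧸ Q) := isSimpleModule_iff_isCoatom.2 hQ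
      haveI : Finite (↥P ⧸ Q) := Quotient.finite _
      obtain ⟨i, hi⟩ : ∃ i, Nat.card ↥(fixElt e (↥P ⧸ Q)) = Nat.card F ^ i := by
        by_cases hiso : Nonempty (F ≃ₗ[R] ↥P ⧸ Q)
        · obtain ⟨φ⟩ := hiso
          refine ⟨1, ?_⟩
          rw [pow_one, show fixElt e (↥P ⧸ Q) = ⊤ from (AddSubgroup.eq_top_iff' _).2 fun q => by
            rw [mem_fixElt, ← φ.apply_symm_apply q, ← φ.map_smul, h1],
            Nat.card_congr AddSubgroup.topEquiv.toEquiv, Nat.card_congr φ.toEquiv]
        · obtain ⟨I, hI, ⟨ψ⟩⟩ := isSimpleModule_iff_quot_maximal.1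
            (inferInstance : IsSimpleModule R (↥P ⧸ Q))
          refine ⟨0, ?_⟩
          rw [pow_zero, show fixElt e (↥P ⧸ Q) = ⊥ from (AddSubgroup.eq_bot_iff_forall _).2 fun q hq => by
            have h2 := congrArg ψ hq
            rw [ψ.map_smul, h0 I hI ⟨fun φ => hiso ⟨φ.trans ψ.symm⟩⟩] at h2
            exact ψ.map_eq_zero_iff.1 h2.symm, AddSubgroup.card_bot]
      -- the fixed points of an idempotent are exact
      let g : ↥(fixElt e ↥P) →+ ↥(fixElt e (↥P ⧸ Q)) :=
        { toFun := fun n => ⟨Q.mkQ n, by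
            rw [mem_fixElt, ← Q.mkQ.map_smul, (n.2 : e • (n : ↥P) = n)]⟩
          map_zero' := Subtype.ext (map_zero Q.mkQ)
          map_add' := fun a b => Subtype.ext (map_add Q.mkQ _ _) }
      have hgs : Function.Surjective g := by
        rintro ⟨q, hq⟩
        obtain ⟨n, rfl⟩ := Q.mkQ_surjective q
        refine ⟨⟨e • n, ?_⟩, Subtype.ext ?_⟩
        · rw [mem_fixElt, ← mul_smul, he]
        · show Q.mkQ (e • n) = Q.mkQ n
          rw [Q.mkQ.map_smul]; exact hq
      have hker : Nat.card ↥g.ker = Nat.card ↥(fixElt e ↥(Q.map P.subtype)) :=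
        Nat.card_congr
          { toFun := fun n => ⟨⟨((n : ↥(fixElt e ↥P)) : ↥P).1, ⟨_, (Submodule.Quotient.mk_eq_zero Q).1
              (congrArg Subtype.val n.2), rfl⟩⟩, Subtype.ext
              (congrArg Subtype.val (n : ↥(fixElt e ↥P)).2 :)⟩
            invFun := fun n => ⟨⟨⟨((n : ↥(Q.map P.subtype)) : N), Submodule.map_subtype_le P Q
              (n : ↥(Q.map P.subtype)).2⟩, Subtype.ext (congrArg Subtype.val n.2 :)⟩, by
              refine Subtype.ext ((Submodule.Quotient.mk_eq_zero Q).2 ?_)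
              obtain ⟨y, hy, e'⟩ := (n : ↥(Q.map P.subtype)).2
              have hy' : y = ⟨((n : ↥(Q.map P.subtype)) : N),
                  Submodule.map_subtype_le P Q (n : ↥(Q.map P.subtype)).2⟩ := Subtype.ext e'
              exact hy' ▸ hy⟩
            left_inv := fun _ => rfl
            right_inv := fun _ => rfl }
      refine ⟨i + j, ?_⟩
      rw [AddSubgroup.card_eq_card_quotient_mul_card_addSubgroup g.ker,
        Nat.card_congr (QuotientAddGroup.quotientKerEquivOfSurjective g hgs).toEquiv, hi, hker, hj, pow_add]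

end CfsgLib.NoFF
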