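import Cfsg.Agent.Lib.LocalEven.MinOffender.Basic
import Cfsg.Agent.Lib.Cores.Basic
import Cfsg.Prelude.Def_LocalEven

/-!
Elementary offenders on modules of exponent two, their restriction to subgroups of the module, and
transport between actions.
-/

set_option autoImplicit false
set_option linter.unusedSectionVars false
set_option linter.style.haveILetI false

namespace CfsgLib.NoFF

open Subgroup Cfsg
open CfsgLib.Fusion (conjSub mem_conjSub conj_mem_conjSub conjSub_conjSub conjSub_one conjSub_mono card_conjSub)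
open CfsgLib.LocalEven.MinOffender (fx fx_anti card_fx_conj pair_le quad_of_strict)

universe u v

variable {Γ : Type*} [Group Γ] {V : Type*} [AddCommGroup V] [DistribMulAction Γ V]

/-- Every element of `A` squares to one. -/
def Elem2 (A : Subgroup Γ) : Prop := ∀ a ∈ A, a * a = 1

theorem Elem2.mono {A B : Subgroup Γ} (h : Elem2 A) (hB : B ≤ A) : Elem2 B := fun a ha => h a (hB ha)

theorem Elem2.inv_eq {A : Subgroup Γ} (h : Elem2 A) {a : Γ} (ha : a ∈ A) : a⁻¹ = a :=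
  inv_eq_of_mul_eq_one_right (h a ha)

theorem Elem2.comm {A : Subgroup Γ} (h : Elem2 A) : ∀ a ∈ A, ∀ b ∈ A, a * b = b * a := fun a ha b hb => by
  have h1 := h.inv_eq (mul_mem ha hb)
  rwa [mul_inv_rev, h.inv_eq ha, h.inv_eq hb, eq_comm] at h1

theorem Elem2.isPGroup {A : Subgroup Γ} (h : Elem2 A) : IsPGroup 2 ↥A := fun a =>
  ⟨1, Subtype.ext (by rw [pow_one, pow_two]; exact h a a.2)⟩

theorem Elem2.map {A : Subgroup Γ} (h : Elem2 A) {H : Type*} [Group H] (f : Γ →* H) : Elem2 (A.map f) := by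
  rintro _ ⟨a, ha, rfl⟩
  rw [← map_mul, h a ha, map_one]

theorem Elem2.subgroupOf {A : Subgroup Γ} (h : Elem2 A) (H : Subgroup Γ) : Elem2 (A.subgroupOf H) :=
  fun a ha => Subtype.ext (h a (mem_subgroupOf.1 ha))

theorem Elem2.conjSub {A : Subgroup Γ} (h : Elem2 A) (g : Γ) : Elem2 (CfsgLib.Fusion.conjSub g A) := h.map _

/-- The offender inequality. -/
def OffOn (V : Type*) [AddCommGroup V] [DistribMulAction Γ V] (A : Subgroup Γ) : Prop :=
  Nat.card V ≤ Nat.card ↥A * Nat.card ↥(fx V A)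

/-- An inclusion-minimal elementary offender. -/
structure IsMinOff (V : Type*) [AddCommGroup V] [DistribMulAction Γ V] (E : Subgroup Γ) : Prop where
  ne : E ≠ ⊥
  elem : Elem2 E
  off : OffOn V E
  min : ∀ E0 : Subgroup Γ, E0 ≤ E → E0 ≠ ⊥ → E0 ≠ E → ¬ OffOn V E0

theorem IsMinOff.strict {E : Subgroup Γ} (h : IsMinOff V E) (A₀ : Subgroup Γ) (h1 : A₀ ≤ E) (h2 : A₀ ≠ ⊥)
    (h3 : A₀ ≠ E) : Nat.card ↥A₀ * Nat.card ↥(fx V A₀) < Nat.card ↥E * Nat.card ↥(fx V E) :=
  (not_le.1 (h.min A₀ h1 h2 h3)).trans_le h.off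

theorem IsMinOff.quad [Finite Γ] [Finite V] (hexp : ∀ v : V, 2 • v = 0) {E : Subgroup Γ} (h : IsMinOff V E)
    {a b : Γ} (ha : a ∈ E) (hb : b ∈ E) (v : V) : a • (b • v - v) = b • v - v :=
  haveI : Fact (Nat.Prime 2) := ⟨Nat.prime_two⟩
  quad_of_strict hexp h.elem.isPGroup h.elem.comm h.off h.strict ha hb v

theorem IsMinOff.conj [Finite Γ] [Finite V] {E : Subgroup Γ} (h : IsMinOff V E) (g : Γ) :
    IsMinOff V (CfsgLib.Fusion.conjSub g E) := by
  refine ⟨fun e => h.ne ?_, h.elem.conjSub g, ?_, fun E0 h1 h2 h3 hoff => ?_⟩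
  · exact (map_eq_bot_iff_of_injective E (MulAut.conj g).injective).1 e
  · unfold OffOn
    rw [card_conjSub, card_fx_conj]
    exact h.off
  · have e0 : conjSub g (conjSub g⁻¹ E0) = E0 := by rw [conjSub_conjSub, mul_inv_cancel, conjSub_one]
    refine h.min (conjSub g⁻¹ E0) ?_ (fun e => h2 ?_) (fun e => h3 (by rw [← e0, e])) ?_
    · have h4 := conjSub_mono g⁻¹ h1
      rwa [conjSub_conjSub, inv_mul_cancel, conjSub_one] at h4
    · exact (map_eq_bot_iff_of_injective E0 (MulAut.conj g⁻¹).injective).1 e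
    · unfold OffOn
      rw [card_conjSub, card_fx_conj]
      exact hoff

theorem exists_isMinOff [Finite Γ] {A : Subgroup Γ} (hA : Elem2 A) (hne : A ≠ ⊥) (hoff : OffOn V A) :
    ∃ E, E ≤ A ∧ IsMinOff V E := by
  obtain ⟨E, ⟨hEA, hEne, hEoff⟩, hmin⟩ := Set.exists_min_image
    {E : Subgroup Γ | E ≤ A ∧ E ≠ ⊥ ∧ OffOn V E} (fun E => Nat.card ↥E) (Set.toFinite _) ⟨A, le_rfl, hne, hoff⟩
  exact ⟨E, hEA, hEne, hA.mono hEA, hEoff, fun E0 h1 h2 h3 h4 =>
    h3 (eq_of_le_of_card_ge h1 (hmin E0 ⟨h1.trans hEA, h2, h4⟩))⟩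

/-- The elements of `E` fixing `W` pointwise. -/
def fixerIn (E : Subgroup Γ) (W : AddSubgroup V) : Subgroup Γ where
  carrier := {e | e ∈ E ∧ ∀ w ∈ W, e • w = w}
  one_mem' := ⟨one_mem E, fun w _ => one_smul Γ w⟩
  mul_mem' := fun {a b} ha hb => ⟨mul_mem ha.1 hb.1, fun w hw => by rw [mul_smul, hb.2 w hw, ha.2 w hw]⟩
  inv_mem' := fun {a} ha => ⟨inv_mem ha.1, fun w hw => by rw [inv_smul_eq_iff, ha.2 w hw]⟩

theorem fixerIn_le (E : Subgroup Γ) (W : AddSubgroup V) : fixerIn E W ≤ E := fun _ h => h.1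

/-- The offender inequality on a subgroup of the module. -/
def OffSub (W : AddSubgroup V) (E : Subgroup Γ) : Prop :=
  Nat.card ↥W * Nat.card ↥(fixerIn E W) ≤ Nat.card ↥E * Nat.card ↥(W ⊓ fx V E)

theorem pass [Finite Γ] [Finite V] (W : AddSubgroup V) {B E : Subgroup Γ} (hB : B ≤ E) :
    Nat.card ↥(W ⊓ fx V B) * Nat.card ↥(fx V E) ≤ Nat.card ↥(fx V B) * Nat.card ↥(W ⊓ fx V E) :=
  pair_le (W := fx V B) (Z := W ⊓ fx V E)
    (fun v (h1 : v ∈ W ⊓ fx V B) (h2 : v ∈ fx V E) => ⟨h1.1, h2⟩) inf_le_right (fx_anti hB)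

/-- A minimal offender is an offender on every subgroup of the module. -/
theorem IsMinOff.offSub [Finite Γ] [Finite V] {E : Subgroup Γ} (h : IsMinOff V E) (W : AddSubgroup V) :
    OffSub W E := by
  set K := fixerIn E W with hK
  have hWK : W ≤ fx V K := fun w hw k hk => hk.2 w hw
  have hp := pass W (fixerIn_le E W)
  rw [inf_eq_left.2 hWK] at hp
  have hXA : 0 < Nat.card ↥(fx V E) := Nat.card_pos
  refine Nat.le_of_mul_le_mul_right (c := Nat.card ↥(fx V E)) ?_ hXA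
  by_cases h0 : K = ⊥
  · rw [← hK, h0, card_bot, mul_one]
    calc _ ≤ Nat.card V * Nat.card ↥(W ⊓ fx V E) :=
          hp.trans (Nat.mul_le_mul_right _ (Nat.card_le_card_of_injective Subtype.val Subtype.val_injective))
      _ ≤ Nat.card ↥E * Nat.card ↥(fx V E) * Nat.card ↥(W ⊓ fx V E) := Nat.mul_le_mul_right _ h.off
      _ = _ := by ring
  by_cases h1 : K = E
  · rw [← hK]
    rw [h1] at hWK ⊢
    rw [inf_eq_left.2 hWK]
    exact le_of_eq (by ring)
  · have hs := (h.strict K (fixerIn_le E W) h0 h1).le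
    calc Nat.card ↥W * Nat.card ↥K * Nat.card ↥(fx V E) = Nat.card ↥K * (Nat.card ↥W * Nat.card ↥(fx V E)) := by
          ring
      _ ≤ Nat.card ↥K * (Nat.card ↥(fx V K) * Nat.card ↥(W ⊓ fx V E)) := Nat.mul_le_mul_left _ hp
      _ = Nat.card ↥K * Nat.card ↥(fx V K) * Nat.card ↥(W ⊓ fx V E) := by ring
      _ ≤ _ := Nat.mul_le_mul_right _ hs
      _ = _ := by ring

/-- A minimal offender is minimal on every subgroup of the module, above its kernel there. -/
theorem IsMinOff.strictSub [Finite Γ] [Finite V] {E : Subgroup Γ} (h : IsMinOff V E) (W : AddSubgroup V)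
    {B : Subgroup Γ} (h1 : B ≤ E) (h2 : B ≠ ⊥) (h3 : B ≠ E) :
    Nat.card ↥B * Nat.card ↥(W ⊓ fx V B) < Nat.card ↥E * Nat.card ↥(W ⊓ fx V E) := by
  refine Nat.lt_of_mul_lt_mul_right (a := Nat.card ↥(fx V E)) ?_
  have hpos : 0 < Nat.card ↥(W ⊓ fx V E) := Nat.card_pos
  calc Nat.card ↥B * Nat.card ↥(W ⊓ fx V B) * Nat.card ↥(fx V E)
      = Nat.card ↥B * (Nat.card ↥(W ⊓ fx V B) * Nat.card ↥(fx V E)) := by ring
    _ ≤ Nat.card ↥B * (Nat.card ↥(fx V B) * Nat.card ↥(W ⊓ fx V E)) := Nat.mul_le_mul_left _ (pass W h1)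
    _ = Nat.card ↥B * Nat.card ↥(fx V B) * Nat.card ↥(W ⊓ fx V E) := by ring
    _ < Nat.card ↥E * Nat.card ↥(fx V E) * Nat.card ↥(W ⊓ fx V E) :=
      Nat.mul_lt_mul_of_pos_right (h.strict B h1 h2 h3) hpos
    _ = _ := by ring

section Transport

variable {X : Type*} [Group X] {N : Type*} [AddCommGroup N] [DistribMulAction X N] {ι : N →+ V}

/-- The element `x` acts as `e` through `ι`. -/
def Acts (ι : N →+ V) (x : X) (e : Γ) : Prop := ∀ n, ι (x • n) = e • ι n

theorem Acts.mul {x y : X} {e f : Γ} (h : Acts ι x e) (h' : Acts ι y f) : Acts ι (x * y) (e * f) := fun n => by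
  rw [mul_smul, mul_smul, h, h']

theorem Acts.one : Acts ι (1 : X) (1 : Γ) := fun n => by rw [one_smul, one_smul]

theorem Acts.inv {x : X} {e : Γ} (h : Acts ι x e) : Acts ι x⁻¹ e⁻¹ := fun n => by
  have h1 := h (x⁻¹ • n)
  rw [smul_inv_smul] at h1
  rw [h1, inv_smul_smul]

/-- The elements of `X` acting as an element of `E`. -/
def push (ι : N →+ V) (E : Subgroup Γ) : Subgroup X where
  carrier := {x | ∃ e ∈ E, Acts ι x e}
  one_mem' := ⟨1, one_mem E, Acts.one⟩
  mul_mem' := fun {_ _} ⟨e, he, h⟩ ⟨f, hf, h'⟩ => ⟨e * f, mul_mem he hf, h.mul h'⟩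
  inv_mem' := fun {_} ⟨e, he, h⟩ => ⟨e⁻¹, inv_mem he, h.inv⟩

/-- The elements of `E` acting as an element of `B`. -/
def pull (ι : N →+ V) (E : Subgroup Γ) (B : Subgroup X) : Subgroup Γ where
  carrier := {e | e ∈ E ∧ ∃ x ∈ B, Acts ι x e}
  one_mem' := ⟨one_mem E, 1, one_mem B, Acts.one⟩
  mul_mem' := fun {_ _} ⟨he, x, hx, h⟩ ⟨hf, y, hy, h'⟩ => ⟨mul_mem he hf, x * y, mul_mem hx hy, h.mul h'⟩
  inv_mem' := fun {_} ⟨he, x, hx, h⟩ => ⟨inv_mem he, x⁻¹, inv_mem hx, h.inv⟩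

theorem Elem2.push {E : Subgroup Γ} (hE : Elem2 E) (hfaith : ∀ x : X, (∀ n : N, x • n = n) → x = 1)
    (hι : Function.Injective ι) : Elem2 (CfsgLib.NoFF.push (X := X) ι E) := by
  rintro x ⟨e, he, h⟩
  exact hfaith _ fun n => hι (by rw [h.mul h n, hE e he, one_smul])

theorem fx_pull {E : Subgroup Γ} {B : Subgroup X} (hB : B ≤ CfsgLib.NoFF.push ι E) (hι : Function.Injective ι) (n : N) :
    ι n ∈ fx V (pull ι E B) ↔ n ∈ fx N B := by
  constructor
  · intro h x hx
    obtain ⟨e, he, hxe⟩ := hB hx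
    exact hι (by rw [hxe, h e ⟨he, x, hx, hxe⟩])
  · rintro h e ⟨-, x, hx, hxe⟩
    rw [← hxe, h x hx]

theorem card_fx_pull {E : Subgroup Γ} {B : Subgroup X} (hB : B ≤ CfsgLib.NoFF.push ι E) (hι : Function.Injective ι) :
    Nat.card ↥(fx N B) = Nat.card ↥(ι.range ⊓ fx V (pull ι E B)) :=
  Nat.card_eq_of_bijective (fun n => ⟨ι n, ⟨(n : N), rfl⟩, (fx_pull hB hι n).2 n.2⟩)
    ⟨fun _ _ e => Subtype.ext (hι (congrArg Subtype.val e)), fun ⟨v, hv⟩ => by
      obtain ⟨n, rfl⟩ := hv.1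
      exact ⟨⟨n, (fx_pull hB hι n).1 hv.2⟩, rfl⟩⟩

theorem card_pull [Finite Γ] {E : Subgroup Γ} {B : Subgroup X} (hB : B ≤ CfsgLib.NoFF.push ι E)
    (hfaith : ∀ x : X, (∀ n : N, x • n = n) → x = 1) (hι : Function.Injective ι) :
    Nat.card ↥(pull ι E B) = Nat.card ↥B * Nat.card ↥(fixerIn E ι.range) := by
  classical
  have huniq : ∀ {x y : X} {e : Γ}, Acts ι x e → Acts ι y e → x = y := fun {x y e} hx hy =>
    inv_mul_eq_one.1 (hfaith _ fun n => hι (by
      have := hx.inv.mul hy n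
      rwa [inv_mul_cancel, one_smul] at this))
  choose c hcB hc using fun e : ↥(pull ι E B) => e.2.2
  let χ : ↥(pull ι E B) →* X :=
    { toFun := c
      map_one' := huniq (hc 1) Acts.one
      map_mul' := fun e f => huniq (hc (e * f)) ((hc e).mul (hc f)) }
  have hr : χ.range = B := by
    refine le_antisymm ?_ fun x hx => ?_
    · rintro _ ⟨e, rfl⟩; exact hcB e
    · obtain ⟨e, he, hxe⟩ := hB hx
      exact ⟨⟨e, he, x, hx, hxe⟩, huniq (hc ⟨e, he, x, hx, hxe⟩) hxe⟩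
  have hk : Nat.card ↥χ.ker = Nat.card ↥(fixerIn E ι.range) :=
    Nat.card_eq_of_bijective (fun e => ⟨((e : ↥(pull ι E B)) : Γ), (e : ↥(pull ι E B)).2.1, by
        rintro _ ⟨n, rfl⟩
        rw [← hc _ n, show c e = 1 from e.2, one_smul]⟩)
      ⟨fun _ _ e => Subtype.ext (Subtype.ext (congrArg Subtype.val e :)), fun ⟨e, he, he'⟩ => by
        refine ⟨⟨⟨e, he, 1, one_mem B, fun n => by rw [one_smul, he' _ ⟨n, rfl⟩]⟩, ?_⟩, rfl⟩
        exact huniq (hc _) fun n => by rw [one_smul, he' _ ⟨n, rfl⟩]⟩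
  rw [card_eq_card_quotient_mul_card_subgroup χ.ker,
    Nat.card_congr (QuotientGroup.quotientKerEquivRange χ).toEquiv, hr, hk]

theorem pull_push {E : Subgroup Γ} (hlift : ∀ e ∈ E, ∃ x : X, Acts ι x e) :
    pull ι E (CfsgLib.NoFF.push (X := X) ι E) = E := by
  refine le_antisymm (fun e he => he.1) fun e he => ?_
  obtain ⟨x, hx⟩ := hlift e he
  exact ⟨he, x, ⟨e, he, hx⟩, hx⟩

theorem offOn_push [Finite Γ] [Finite X] {E : Subgroup Γ} (hlift : ∀ e ∈ E, ∃ x : X, Acts ι x e)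
    (hfaith : ∀ x : X, (∀ n : N, x • n = n) → x = 1) (hι : Function.Injective ι) (hoff : OffSub ι.range E) :
    OffOn N (CfsgLib.NoFF.push (X := X) ι E) := by
  have h1 := card_pull (le_refl (CfsgLib.NoFF.push (X := X) ι E)) hfaith hι
  have h2 := card_fx_pull (le_refl (CfsgLib.NoFF.push (X := X) ι E)) hι
  rw [pull_push hlift] at h1 h2
  unfold OffOn OffSub at *
  rw [← Nat.card_congr (AddMonoidHom.ofInjective hι).toEquiv, h1, mul_right_comm] at hoff
  rw [h2]
  exact Nat.le_of_mul_le_mul_right hoff Nat.card_pos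

theorem strict_push [Finite Γ] [Finite X] [Finite V] {E : Subgroup Γ} (hlift : ∀ e ∈ E, ∃ x : X, Acts ι x e)
    (hfaith : ∀ x : X, (∀ n : N, x • n = n) → x = 1) (hι : Function.Injective ι) (hmin : IsMinOff V E)
    (B : Subgroup X) (hB : B ≤ CfsgLib.NoFF.push ι E) (hB1 : B ≠ ⊥) (hB2 : B ≠ CfsgLib.NoFF.push ι E) :
    Nat.card ↥B * Nat.card ↥(fx N B) <
      Nat.card ↥(CfsgLib.NoFF.push (X := X) ι E) * Nat.card ↥(fx N (CfsgLib.NoFF.push (X := X) ι E)) := by
  have c1 := card_pull hB hfaith hι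
  have c2 := card_pull (le_refl (CfsgLib.NoFF.push (X := X) ι E)) hfaith hι
  rw [pull_push hlift] at c2
  have hp1 : 0 < Nat.card ↥(fixerIn E ι.range) := Nat.card_pos
  have h1 : pull ι E B ≠ ⊥ := fun e => hB1 <| card_eq_one.1 <| by
    rw [e, card_bot] at c1
    exact Nat.eq_one_of_mul_eq_one_right c1.symm
  have h2 : pull ι E B ≠ E := fun e => hB2 <| eq_of_le_of_card_ge hB <| by
    rw [e, c2] at c1
    exact (Nat.eq_of_mul_eq_mul_right hp1 c1).le
  have hs := hmin.strictSub ι.range (show pull ι E B ≤ E from fun _ h => h.1) h1 h2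
  rw [c1, c2, mul_right_comm, mul_right_comm _ (Nat.card ↥(fixerIn E ι.range)), ← card_fx_pull hB hι] at hs
  have h3 := card_fx_pull (le_refl (CfsgLib.NoFF.push (X := X) ι E)) hι
  rw [pull_push hlift] at h3
  rw [← h3] at hs
  exact Nat.lt_of_mul_lt_mul_right hs

theorem fixes_of_push_eq_bot {E : Subgroup Γ} (hlift : ∀ e ∈ E, ∃ x : X, Acts ι x e)
    (h : CfsgLib.NoFF.push (X := X) ι E = ⊥) {e : Γ} (he : e ∈ E) (n : N) : e • ι n = ι n := by
  obtain ⟨x, hx⟩ := hlift e he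
  have h1 : x ∈ CfsgLib.NoFF.push ι E := ⟨e, he, hx⟩
  rw [h, mem_bot] at h1
  rw [← hx, h1, one_smul]

end Transport

section Quot

/-- The action on the quotient by an invariant subgroup. -/
@[reducible]
def quotAct (U : AddSubgroup V) (hU : ∀ g : Γ, ∀ u ∈ U, g • u ∈ U) : DistribMulAction Γ (V ⧸ U) where
  smul g := QuotientAddGroup.map U U (DistribSMul.toAddMonoidHom V g) fun u hu => hU g u hu
  one_smul x := QuotientAddGroup.induction_on x fun v => congrArg (QuotientAddGroup.mk' U) (one_smul Γ v)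
  mul_smul g h x := QuotientAddGroup.induction_on x fun v => congrArg (QuotientAddGroup.mk' U) (mul_smul g h v)
  smul_zero g := map_zero (QuotientAddGroup.map U U (DistribSMul.toAddMonoidHom V g) fun u hu => hU g u hu)
  smul_add g := map_add (QuotientAddGroup.map U U (DistribSMul.toAddMonoidHom V g) fun u hu => hU g u hu)

theorem quotAct_mk (U : AddSubgroup V) (hU : ∀ g : Γ, ∀ u ∈ U, g • u ∈ U) (g : Γ) (v : V) :
    letI := quotAct U hU
    g • (QuotientAddGroup.mk v : V ⧸ U) = QuotientAddGroup.mk (g • v) := rfl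

end Quot

section Img

variable (H : Subgroup Γ) (W : AddSubgroup V) (hW : ∀ h ∈ H, ∀ w ∈ W, h • w ∈ W)

/-- The action of a subgroup on an invariant subgroup. -/
@[reducible]
def resAct : DistribMulAction ↥H ↥W where
  smul h w := ⟨(h : Γ) • (w : V), hW h h.2 w w.2⟩
  one_smul w := Subtype.ext (one_smul Γ (w : V))
  mul_smul h h' w := Subtype.ext (mul_smul (h : Γ) (h' : Γ) (w : V))
  smul_zero h := Subtype.ext (smul_zero (h : Γ))
  smul_add h v w := Subtype.ext (smul_add (h : Γ) (v : V) (w : V))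

/-- The representation on an invariant subgroup. -/
def imgHom : ↥H →* (AddMonoid.End ↥W)ˣ :=
  letI := resAct H W hW
  (DistribMulAction.toAddMonoidEnd ↥H ↥W).toHomUnits

/-- The group induced on an invariant subgroup. -/
abbrev Img : Subgroup (AddMonoid.End ↥W)ˣ := (imgHom H W hW).range

/-- The projection onto the induced group. -/
def toImg : ↥H →* ↥(Img H W hW) := (imgHom H W hW).rangeRestrict

theorem toImg_surjective : Function.Surjective (toImg H W hW) := MonoidHom.rangeRestrict_surjective _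

theorem toImg_smul (h : ↥H) (w : ↥W) : ((toImg H W hW h • w : ↥W) : V) = (h : Γ) • (w : V) := rfl

theorem img_faithful (x : ↥(Img H W hW)) (hx : ∀ w : ↥W, x • w = w) : x = 1 :=
  Subtype.ext (Units.ext (DFunLike.ext _ _ fun w => hx w))

theorem acts_toImg (h : ↥H) : Acts W.subtype (toImg H W hW h) (h : Γ) := fun _ => rfl

theorem card_img_le [Finite Γ] : Nat.card ↥(Img H W hW) ≤ Nat.card Γ :=
  (Nat.card_le_card_of_surjective _ (toImg_surjective H W hW)).trans
    (Nat.card_le_card_of_injective _ Subtype.val_injective)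

theorem finite_img [Finite Γ] : Finite ↥(Img H W hW) := Finite.of_surjective _ (toImg_surjective H W hW)

end Img

/-- The statement: a group without section `S₃` and without normal `2`-subgroups has no offender. -/
def NoOffenders (n : ℕ) : Prop :=
  ∀ (Γ V : Type u) [Group Γ] [Finite Γ] [AddCommGroup V] [Finite V] [DistribMulAction Γ V],
    Nat.card Γ + Nat.card V ≤ n → ¬ Involves (Equiv.Perm (Fin 3)) Γ →
    (∀ g : Γ, (∀ v : V, g • v = v) → g = 1) → (∀ v : V, 2 • v = 0) → pCore 2 Γ = ⊥ →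
    ∀ A : Subgroup Γ, Elem2 A → OffOn V A → A = ⊥

end CfsgLib.NoFF
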