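import Cfsg.Agent.Lib.NoFF.Algebra
import Cfsg.Agent.Lib.NoFF.Offender

/-!
The group acting trivially on a module modulo fixed points is smaller than that quotient by the order of
any of its simple sections, if none of its subgroups is an offender.
-/

set_option autoImplicit false
set_option linter.unusedSectionVars false
set_option linter.style.haveILetI false

namespace CfsgLib.NoFF

open CfsgLib.LocalEven.MinOffender (fx)

theorem card_comap_mk {W : Type*} [AddCommGroup W] (U : AddSubgroup W) (Z : AddSubgroup (W ⧸ U)) :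
    Nat.card ↥(Z.comap (QuotientAddGroup.mk' U)) = Nat.card ↥Z * Nat.card ↥U := by
  let g : ↥(Z.comap (QuotientAddGroup.mk' U)) →+ ↥Z :=
    { toFun := fun w => ⟨QuotientAddGroup.mk' U w, w.2⟩
      map_zero' := Subtype.ext (map_zero _)
      map_add' := fun a b => Subtype.ext (map_add _ _ _) }
  have hs : Function.Surjective g := fun z => by
    obtain ⟨w, hw⟩ := QuotientAddGroup.mk'_surjective U z.1
    exact ⟨⟨w, show QuotientAddGroup.mk' U w ∈ Z from hw ▸ z.2⟩, Subtype.ext hw⟩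
  rw [AddSubgroup.card_eq_card_quotient_mul_card_addSubgroup g.ker,
    Nat.card_congr (QuotientAddGroup.quotientKerEquivOfSurjective g hs).toEquiv]
  refine congrArg _ (Nat.card_congr
    { toFun := fun w => ⟨((w : ↥(Z.comap (QuotientAddGroup.mk' U))) : W),
        (QuotientAddGroup.eq_zero_iff _).1 (congrArg Subtype.val w.2 :)⟩
      invFun := fun u => ⟨⟨u, show QuotientAddGroup.mk' U (u : W) ∈ Z by
        rw [QuotientAddGroup.mk'_apply, (QuotientAddGroup.eq_zero_iff _).2 u.2]; exact zero_mem Z⟩,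
        Subtype.ext ((QuotientAddGroup.eq_zero_iff _).2 u.2)⟩
      left_inv := fun _ => rfl
      right_inv := fun _ => rfl })

theorem card_map_mk_mul {W : Type*} [AddCommGroup W] (U : AddSubgroup W) {Z : AddSubgroup W} (hZ : U ≤ Z) :
    Nat.card ↥Z = Nat.card ↥(Z.map (QuotientAddGroup.mk' U)) * Nat.card ↥U := by
  rw [← card_comap_mk U (Z.map (QuotientAddGroup.mk' U)), AddSubgroup.comap_map_eq, QuotientAddGroup.ker_mk',
    sup_eq_left.2 hZ]

variable {X W : Type*} [Group X] [Finite X] [AddCommGroup W] [Finite W] [DistribMulAction X W]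
  {U : AddSubgroup W}

/-- `φ` is the map `w ↦ s w - w` modulo `U`. -/
def IsDelta (U : AddSubgroup W) (s : X) (φ : W ⧸ U →+ ↥U) : Prop :=
  ∀ w, ((φ (QuotientAddGroup.mk w) : ↥U) : W) = s • w - w

theorem isDelta_one : IsDelta U (1 : X) 0 := fun w => by simp

theorem IsDelta.mem {s : X} {φ : W ⧸ U →+ ↥U} (h : IsDelta U s φ) (w : W) : s • w - w ∈ U :=
  h w ▸ (φ (QuotientAddGroup.mk w)).2

theorem IsDelta.unique {s : X} {φ ψ : W ⧸ U →+ ↥U} (h : IsDelta U s φ) (h' : IsDelta U s ψ) : φ = ψ :=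
  AddMonoidHom.ext fun q => QuotientAddGroup.induction_on q fun w => Subtype.ext ((h w).trans (h' w).symm)

theorem IsDelta.inj (hfaith : ∀ x : X, (∀ w : W, x • w = w) → x = 1) {s t : X} {φ : W ⧸ U →+ ↥U}
    (h : IsDelta U s φ) (h' : IsDelta U t φ) : s = t := by
  refine inv_mul_eq_one.1 (hfaith _ fun w => ?_)
  rw [mul_smul, sub_left_inj.1 ((h' w).symm.trans (h w)), inv_smul_smul]

theorem IsDelta.mul (hU : ∀ x : X, ∀ u ∈ U, x • u = u) {s t : X} {φ ψ : W ⧸ U →+ ↥U} (h : IsDelta U s φ)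
    (h' : IsDelta U t ψ) : IsDelta U (s * t) (φ + ψ) := fun w => by
  rw [AddMonoidHom.add_apply, AddSubgroup.coe_add, h, h', mul_smul]
  have e1 := hU s (t • w - w) (h'.mem w)
  rw [smul_sub] at e1
  rw [show s • t • w = t • w - w + s • w from sub_eq_iff_eq_add.1 e1]
  abel

theorem IsDelta.inv (hU : ∀ x : X, ∀ u ∈ U, x • u = u) {s : X} {φ : W ⧸ U →+ ↥U} (h : IsDelta U s φ) :
    IsDelta U s⁻¹ (-φ) := fun w => by
  rw [AddMonoidHom.neg_apply, AddSubgroup.coe_neg, h]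
  have e1 := hU s⁻¹ (s • w - w) (h.mem w)
  rw [smul_sub, inv_smul_smul] at e1
  rw [← e1]; abel

theorem IsDelta.conj (hU : ∀ x : X, ∀ u ∈ U, x • u = u) {s : X} {φ : W ⧸ U →+ ↥U} (h : IsDelta U s φ) (x : X)
    (f : W ⧸ U →+ W ⧸ U) (hf : ∀ w, f (QuotientAddGroup.mk w) = QuotientAddGroup.mk (x • w)) :
    IsDelta U (x⁻¹ * s * x) (φ.comp f) := fun w => by
  rw [AddMonoidHom.comp_apply, hf, h, mul_smul, mul_smul]
  have e1 := hU x⁻¹ (s • x • w - x • w) (h.mem _)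
  rw [smul_sub, inv_smul_smul] at e1
  exact e1.symm

/-- The key bound. -/
theorem key_bound (hexp : ∀ w : W, 2 • w = 0) (hfaith : ∀ x : X, (∀ w : W, x • w = w) → x = 1)
    (U : AddSubgroup W) (hU : ∀ x : X, ∀ u ∈ U, x • u = u) (S : Subgroup X)
    (hS : ∀ s, s ∈ S ↔ ∀ w : W, s • w - w ∈ U)
    (hweak : ∀ D : Subgroup X, D ≤ S → D ≠ ⊥ → Nat.card ↥D * Nat.card ↥(fx W D) < Nat.card W)
    (W0 W1 : AddSubgroup W) (hU0 : U ≤ W0) (h01 : W0 < W1)
    (hi0 : ∀ x : X, ∀ w ∈ W0, x • w ∈ W0) (hi1 : ∀ x : X, ∀ w ∈ W1, x • w ∈ W1)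
    (hsimple : ∀ Z : AddSubgroup W, (∀ x : X, ∀ w ∈ Z, x • w ∈ Z) → W0 ≤ Z → Z ≤ W1 → Z = W0 ∨ Z = W1) :
    Nat.card ↥S * Nat.card ↥W1 * Nat.card ↥U ≤ Nat.card W * Nat.card ↥W0 := by
  classical
  set π := QuotientAddGroup.mk' U with hπ
  haveI : Finite (W ⧸ U →+ ↥U) := DFunLike.finite _
  let Sh : AddSubgroup (W ⧸ U →+ ↥U) :=
    { carrier := {φ | ∃ s : X, IsDelta U s φ}
      zero_mem' := ⟨1, isDelta_one⟩
      add_mem' := fun {_ _} ⟨s, hs⟩ ⟨t, ht⟩ => ⟨s * t, hs.mul hU ht⟩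
      neg_mem' := fun {_} ⟨s, hs⟩ => ⟨s⁻¹, hs.inv hU⟩ }
  have hShc : Nat.card ↥Sh = Nat.card ↥S := by
    have hex : ∀ s : ↥S, ∃ φ, IsDelta U (s : X) φ := fun s => by
      let f : W →+ ↥U :=
        { toFun := fun w => ⟨(s : X) • w - w, (hS s).1 s.2 w⟩
          map_zero' := Subtype.ext (by simp)
          map_add' := fun a b => Subtype.ext (by simp only [smul_add, AddSubgroup.coe_add]; abel) }
      exact ⟨QuotientAddGroup.lift U f fun u hu => Subtype.ext (show (s : X) • u - u = 0 by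
        rw [hU _ u hu, sub_self]), fun w => rfl⟩
    choose φ hφ using hex
    refine (Nat.card_eq_of_bijective (fun s : ↥S => (⟨φ s, s, hφ s⟩ : ↥Sh))
      ⟨fun s t e => Subtype.ext ((hφ s).inj hfaith (by
        rw [show φ s = φ t from congrArg Subtype.val e]; exact hφ t)), ?_⟩).symm
    rintro ⟨ψ, s, hs⟩
    exact ⟨⟨s, (hS s).2 hs.mem⟩, Subtype.ext ((hφ _).unique hs)⟩
  let θ : X → AddMonoid.End (W ⧸ U) := fun x =>
    QuotientAddGroup.map U U (DistribSMul.toAddMonoidHom W x) fun u hu => show x • u ∈ U by rwa [hU x u hu]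
  have hmem : ∀ {Z : AddSubgroup W}, U ≤ Z → ∀ w, π w ∈ Z.map π → w ∈ Z := fun {Z} hZ w hw => by
    have h1 : w ∈ (Z.map π).comap π := hw
    rwa [AddSubgroup.comap_map_eq, hπ, QuotientAddGroup.ker_mk', sup_eq_left.2 hZ] at h1
  have hbound : Nat.card ↥Sh * Nat.card ↥(W1.map π) ≤ Nat.card (W ⧸ U) * Nat.card ↥(W0.map π) := by
    refine algebra_bound (fun u => Subtype.ext (hexp u)) (Set.range θ) ?_
      (lt_of_le_not_ge (AddSubgroup.map_mono h01.le) fun h => h01.not_ge fun w hw =>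
        hmem hU0 w (h ⟨w, hw, rfl⟩)) ?_ ?_
    · rintro _ ⟨x, rfl⟩
      refine ⟨?_, ?_, ?_⟩
      · rintro _ ⟨w, hw, rfl⟩; exact ⟨x • w, hi0 x w hw, rfl⟩
      · rintro _ ⟨w, hw, rfl⟩; exact ⟨x • w, hi1 x w hw, rfl⟩
      · rintro φ ⟨s, hs⟩
        exact ⟨x⁻¹ * s * x, hs.conj hU x _ fun w => rfl⟩
    · intro Z hZ h0 h1
      rcases hsimple (Z.comap π) (fun x w hw => hZ (θ x) ⟨x, rfl⟩ (π w) hw)
        (fun w hw => h0 ⟨w, hw, rfl⟩) (fun w hw => hmem (hU0.trans h01.le) w (h1 hw)) with e | e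
      · left
        rw [← e, AddSubgroup.map_comap_eq_self_of_surjective (QuotientAddGroup.mk'_surjective U)]
      · right
        rw [← e, AddSubgroup.map_comap_eq_self_of_surjective (QuotientAddGroup.mk'_surjective U)]
    · intro T Z hTZ hT
      let D : Subgroup X :=
        { carrier := {s | ∃ φ ∈ T, IsDelta U s (φ : W ⧸ U →+ ↥U)}
          one_mem' := ⟨0, zero_mem T, isDelta_one⟩
          mul_mem' := fun {_ _} ⟨φ, hφ, h⟩ ⟨ψ, hψ, h'⟩ => ⟨φ + ψ, add_mem hφ hψ, h.mul hU h'⟩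
          inv_mem' := fun {_} ⟨φ, hφ, h⟩ => ⟨-φ, neg_mem hφ, h.inv hU⟩ }
      have hDc : Nat.card ↥D = Nat.card ↥T := by
        choose φ hφT hφ using fun s : ↥D => s.2
        refine Nat.card_eq_of_bijective (fun s => (⟨φ s, hφT s⟩ : ↥T)) ⟨fun s t e => Subtype.ext
          ((hφ s).inj hfaith (by rw [show φ s = φ t from congrArg Subtype.val e]; exact hφ t)), fun ψ => ?_⟩
        obtain ⟨s, hs⟩ := (ψ : ↥Sh).2
        exact ⟨⟨s, ψ, ψ.2, hs⟩, Subtype.ext (Subtype.ext ((hφ _).unique hs))⟩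
      have hfx : Z.comap π ≤ fx W D := by
        rintro w hw s ⟨φ, hφ, hs⟩
        have h1 := hs w
        rw [show (φ : W ⧸ U →+ ↥U) (QuotientAddGroup.mk w) = 0 from hTZ φ hφ _ hw, ZeroMemClass.coe_zero] at h1
        exact sub_eq_zero.1 h1.symm
      have hD : D ≠ ⊥ := fun e => hT (by rw [← hDc, e, Subgroup.card_bot])
      have h1 := hweak D (fun s ⟨_, _, h⟩ => (hS s).2 h.mem) hD
      have h2 : Nat.card ↥(Z.comap π) ≤ Nat.card ↥(fx W D) :=
        Nat.card_le_card_of_injective _ (AddSubgroup.inclusion_injective hfx)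
      rw [card_comap_mk] at h2
      refine Nat.lt_of_mul_lt_mul_right (a := Nat.card ↥U) ?_
      rw [← AddSubgroup.card_eq_card_quotient_mul_card_addSubgroup, mul_assoc, ← hDc]
      exact lt_of_le_of_lt (Nat.mul_le_mul_left _ h2) h1
  rw [← hShc, card_map_mk_mul U (hU0.trans h01.le), card_map_mk_mul U hU0,
    AddSubgroup.card_eq_card_quotient_mul_card_addSubgroup U, ← hπ]
  calc Nat.card ↥Sh * (Nat.card ↥(W1.map π) * Nat.card ↥U) * Nat.card ↥U
      = Nat.card ↥Sh * Nat.card ↥(W1.map π) * (Nat.card ↥U * Nat.card ↥U) := by ring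
    _ ≤ Nat.card (W ⧸ U) * Nat.card ↥(W0.map π) * (Nat.card ↥U * Nat.card ↥U) := Nat.mul_le_mul_right _ hbound
    _ = _ := by ring

end CfsgLib.NoFF
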