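import Cfsg.Agent.Lib.JGeneration.OffenderSection

/-!
A largest subgroup generated by members of a conjugation-closed family with normalizer outside a given
subgroup, a member normalizing it, and a smallest subgroup outside between them and that normalizer.
-/

set_option autoImplicit false
set_option linter.unusedSectionVars false
set_option linter.style.haveILetI false

namespace CfsgLib.NoFF

open Subgroup
open CfsgLib.Fusion (conjSub mem_conjSub conj_mem_conjSub conjSub_conjSub conjSub_one conjSub_mono card_conjSub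
  conjSub_eq_iff_mem_normalizer)
open CfsgLib.JGeneration (genIn genIn_le le_genIn genIn_mono genIn_idem genIn_conj normalizer_le_genIn)

variable {Γ : Type*} [Group Γ] [Finite Γ] {p : ℕ} [Fact p.Prime] {𝒜 : Set (Subgroup Γ)}

theorem exists_conj_le_of_le {T : Sylow p Γ} {Mx : Subgroup Γ} (hT : (T : Subgroup Γ) ≤ Mx) {H : Subgroup Γ}
    (hH : IsPGroup p ↥H) (hle : H ≤ Mx) : ∃ m ∈ Mx, H ≤ conjSub m (T : Subgroup Γ) := by
  obtain ⟨P, hP⟩ := (hH.of_equiv (Subgroup.subgroupOfEquivOfLe hle).symm).exists_le_sylow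
  obtain ⟨m, hm⟩ := MulAction.exists_smul_eq (↥Mx) (T.subtype hT) P
  refine ⟨(m : Γ), m.2, fun x hx => ?_⟩
  have h1 : (⟨x, hle hx⟩ : ↥Mx) ∈ (P : Subgroup ↥Mx) :=
    hP (show (⟨x, hle hx⟩ : ↥Mx) ∈ H.subgroupOf _ from hx)
  rw [← hm, Sylow.coe_subgroup_smul] at h1
  obtain ⟨y, hy, e⟩ := h1
  exact ⟨(y : Γ), hy, congrArg Subtype.val e⟩

/-- The configuration. -/
theorem exists_pair_minimal (hconj : ∀ A ∈ 𝒜, ∀ g, conjSub g A ∈ 𝒜) (T : Sylow p Γ) (Mx : Subgroup Γ)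
    (hsyl : (T : Subgroup Γ) ≤ Mx) (hne : Mx ≠ ⊤)
    (hN : normalizer (genIn 𝒜 (T : Subgroup Γ) : Set Γ) ≤ Mx) :
    ∃ R A L : Subgroup Γ, R ≤ genIn 𝒜 (T : Subgroup Γ) ∧ A ∈ 𝒜 ∧ A ≤ (T : Subgroup Γ) ∧ A ⊔ R ≤ L ∧
      L ≤ normalizer (R : Set Γ) ∧ ¬ L ≤ Mx ∧ (∀ H : Subgroup Γ, A ⊔ R ≤ H → H ≤ L → H ≠ L → H ≤ Mx) ∧
      ∀ P : Subgroup Γ, IsPGroup p ↥P → A ⊔ R ≤ P → P ≤ Mx ∧ normalizer (genIn 𝒜 P : Set Γ) ≤ Mx := by
  classical
  obtain ⟨R, ⟨hRT, hRg, hRN⟩, hmax⟩ := Set.exists_max_image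
    {R : Subgroup Γ | R ≤ (T : Subgroup Γ) ∧ genIn 𝒜 R = R ∧ ¬ normalizer (R : Set Γ) ≤ Mx}
    (fun R => Nat.card ↥R) (Set.toFinite _)
    ⟨⊥, bot_le, le_bot_iff.1 (genIn_le _), fun hle => hne (eq_top_iff.2 fun g _ =>
      hle (by rw [normalizer_eq_top_iff.2 (inferInstance : (⊥ : Subgroup Γ).Normal)]; exact mem_top g))⟩
  have hneR : genIn 𝒜 (T : Subgroup Γ) ≠ R := fun e => hRN (e ▸ hN)
  set T₁ := (T : Subgroup Γ) ⊓ normalizer (R : Set Γ) with hT₁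
  obtain ⟨A, hA, hAT₁, hAR⟩ : ∃ A ∈ 𝒜, A ≤ T₁ ∧ ¬ A ≤ R := by
    by_contra hc
    push Not at hc
    have heq : genIn 𝒜 T₁ = R :=
      le_antisymm (sSup_le fun A hA => hc A hA.1 hA.2)
        (le_of_eq_of_le hRg.symm (genIn_mono (le_inf hRT Subgroup.le_normalizer)))
    rcases (inf_le_left : T₁ ≤ (T : Subgroup Γ)).eq_or_lt with e | e
    · exact hneR (e ▸ heq)
    · refine (CfsgLib.Techniques.Functor.lt_norm T.2 e).not_ge (le_inf inf_le_left ?_)
      refine inf_le_right.trans ?_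
      calc normalizer (T₁ : Set Γ) ≤ normalizer (genIn 𝒜 T₁ : Set Γ) := normalizer_le_genIn hconj T₁
        _ = normalizer (R : Set Γ) := by rw [heq]
  have hAT : A ≤ (T : Subgroup Γ) := hAT₁.trans inf_le_left
  -- any `p`-subgroup of `Mx` over `A ⊔ R` generates a subgroup with normalizer in `Mx`
  have key : ∀ P₁ : Subgroup Γ, IsPGroup p ↥P₁ → A ⊔ R ≤ P₁ → P₁ ≤ Mx →
      normalizer (genIn 𝒜 P₁ : Set Γ) ≤ Mx := by
    intro P₁ hP₁ hle₁ hM
    obtain ⟨m, hm, hPm⟩ := exists_conj_le_of_le hsyl hP₁ hM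
    set R' := conjSub m⁻¹ (genIn 𝒜 P₁) with hR'
    have hR'T : R' ≤ (T : Subgroup Γ) := by
      have h1 := conjSub_mono m⁻¹ ((genIn_le (𝒜 := 𝒜) P₁).trans hPm)
      rwa [conjSub_conjSub, inv_mul_cancel, conjSub_one] at h1
    have hR'g : genIn 𝒜 R' = R' := by rw [hR', genIn_conj hconj, genIn_idem]
    have hlt : R < genIn 𝒜 P₁ :=
      lt_of_le_not_ge (le_of_eq_of_le hRg.symm (genIn_mono (le_sup_right.trans hle₁)))
        fun hge => hAR ((le_genIn hA (le_sup_left.trans hle₁)).trans hge)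
    intro g hg
    have hN' : normalizer (R' : Set Γ) ≤ Mx := by
      by_contra hc
      have h1 := hmax R' ⟨hR'T, hR'g, hc⟩
      rw [hR', card_conjSub] at h1
      exact (CfsgLib.Techniques.Functor.card_lt_of_lt hlt).not_ge h1
    have hg' : m⁻¹ * g * m ∈ normalizer (R' : Set Γ) := by
      rw [← conjSub_eq_iff_mem_normalizer, hR', conjSub_conjSub,
        show m⁻¹ * g * m * m⁻¹ = m⁻¹ * g by group, ← conjSub_conjSub, conjSub_eq_iff_mem_normalizer.2 hg]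
    have := mul_mem (mul_mem hm (hN' hg')) (inv_mem hm)
    rwa [show m * (m⁻¹ * g * m) * m⁻¹ = g by group] at this
  have hARM : A ⊔ R ≤ Mx := sup_le (hAT.trans hsyl) (hRT.trans hsyl)
  obtain ⟨L, ⟨hARL, hLN, hLM⟩, hmin⟩ := Set.exists_min_image
    {X : Subgroup Γ | A ⊔ R ≤ X ∧ X ≤ normalizer (R : Set Γ) ∧ ¬ X ≤ Mx} (fun X => Nat.card ↥X) (Set.toFinite _)
    ⟨normalizer (R : Set Γ), sup_le (hAT₁.trans inf_le_right) Subgroup.le_normalizer, le_rfl, hRN⟩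
  refine ⟨R, A, L, le_of_eq_of_le hRg.symm (genIn_mono hRT), hA, hAT, hARL, hLN, hLM, fun H h1 h2 h3 => ?_,
    fun P hP hle => ?_⟩
  · by_contra hc
    exact h3 (eq_of_le_of_card_ge h2 (hmin H ⟨h1, h2.trans hLN, hc⟩))
  have hPM : P ≤ Mx := by
    set P₁ := P ⊓ Mx with hP₁
    rcases (inf_le_left : P₁ ≤ P).eq_or_lt with e | e
    · exact e.symm.le.trans inf_le_right
    · exfalso
      refine (CfsgLib.Techniques.Functor.lt_norm hP e).not_ge (le_inf inf_le_left (inf_le_right.trans ?_))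
      exact (normalizer_le_genIn hconj P₁).trans (key P₁ (hP.to_le inf_le_left) (le_inf hle hARM) inf_le_right)
  exact ⟨hPM, key P hP hle hPM⟩

end CfsgLib.NoFF
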