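import Cfsg.Agent.Lib.NoFF.Core
import Cfsg.Agent.Lib.NoFF.TopPair

/-!
A group without a section `S₃` and without a nontrivial normal `2`-subgroup has no nontrivial elementary
offender on a faithful module of exponent two.
-/

set_option autoImplicit false
set_option linter.unusedSectionVars false
set_option linter.style.haveILetI false

namespace CfsgLib.NoFF

open Subgroup Cfsg
open CfsgLib.Fusion (conjSub mem_conjSub conj_mem_conjSub conjSub_conjSub conjSub_one conjSub_mono card_conjSub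
  conjSub_eq_iff_mem_normalizer)
open CfsgLib.LocalEven.MinOffender (fx fx_anti)
open CfsgLib.JGeneration (genIn genIn_le le_genIn normalizer_le_genIn)
open CfsgLib.LocalEven.Offender (involves_of_injective involves_of_surjective)

universe u

theorem noOffenders (n : ℕ) : NoOffenders.{u} n := by
  induction n using Nat.strong_induction_on with
  | _ n IH =>
  intro Γ V _ _ _ _ _ hn hfree hfaith hexp hcore A hA hoff
  classical
  haveI : Fact (Nat.Prime 2) := ⟨Nat.prime_two⟩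
  by_contra hne
  haveI : Nontrivial V := by
    by_contra hc
    rw [not_nontrivial_iff_subsingleton] at hc
    exact hne ((eq_bot_iff_forall _).2 fun a _ => hfaith a fun v => Subsingleton.elim _ _)
  have hnorm : ∀ N : Subgroup Γ, N.Normal → IsPGroup 2 ↥N → N = ⊥ := fun N _ h2 =>
    le_bot_iff.1 ((CfsgLib.Cores.le_pCore h2).trans hcore.le)
  -- no fixed points of the whole group
  set U := fx V (⊤ : Subgroup Γ) with hU
  by_cases hU0 : U = ⊥
  swap
  · have hUi : ∀ g : Γ, ∀ u ∈ U, g • u ∈ U := fun g u hu => by rw [hu g (mem_top g)]; exact hu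
    letI := quotAct U hUi
    have hmk : ∀ v w : V, (QuotientAddGroup.mk v : V ⧸ U) = QuotientAddGroup.mk w ↔ v - w ∈ U := fun v w =>
      QuotientAddGroup.eq_iff_sub_mem
    let K : Subgroup Γ :=
      { carrier := {g | ∀ q : V ⧸ U, g • q = q}
        one_mem' := fun q => one_smul Γ q
        mul_mem' := fun {a b} ha hb q => by rw [mul_smul, hb, ha]
        inv_mem' := fun {a} ha q => by rw [inv_smul_eq_iff, ha] }
    haveI hKn : K.Normal := ⟨fun k hk x q => by rw [mul_smul, mul_smul, hk, smul_inv_smul]⟩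
    have hKel : Elem2 K := fun k hk => hfaith _ fun v => by
      have h1 : k • v - v ∈ U := (hmk _ _).1 (hk (QuotientAddGroup.mk v))
      have h2 := h1 k (mem_top k)
      have h3 := hexp (k • v - v)
      rw [two_nsmul] at h3
      rw [smul_sub] at h2
      rw [mul_smul]
      calc k • k • v = (k • k • v - k • v) + k • v := by abel
        _ = (k • v - v) + ((k • v - v) + v) := by rw [h2]; abel
        _ = v := by rw [← add_assoc, h3, zero_add]
    have hfaith' : ∀ g : Γ, (∀ q : V ⧸ U, g • q = q) → g = 1 := fun g hg =>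
      mem_bot.1 (hnorm K hKn hKel.isPGroup ▸ (show g ∈ K from hg))
    have hoff' : OffOn (V ⧸ U) A := by
      have h1 : Nat.card ↥((fx V A).map (QuotientAddGroup.mk' U)) ≤ Nat.card ↥(fx (V ⧸ U) A) := by
        refine Nat.card_le_card_of_injective _ (AddSubgroup.inclusion_injective ?_)
        rintro _ ⟨v, hv, rfl⟩ a ha
        exact congrArg (QuotientAddGroup.mk' U) (hv a ha)
      refine Nat.le_of_mul_le_mul_right (c := Nat.card ↥U) ?_ Nat.card_pos
      rw [← AddSubgroup.card_eq_card_quotient_mul_card_addSubgroup]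
      refine hoff.trans ?_
      rw [card_map_mk_mul U (fx_anti le_top : U ≤ fx V A), ← mul_assoc]
      exact Nat.mul_le_mul_right _ (Nat.mul_le_mul_left _ h1)
    have hlt : Nat.card Γ + Nat.card (V ⧸ U) < n := lt_of_lt_of_le (by
      refine Nat.add_lt_add_left ?_ _
      rw [AddSubgroup.card_eq_card_quotient_mul_card_addSubgroup U]
      exact lt_mul_of_one_lt_right Nat.card_pos ((AddSubgroup.one_lt_card_iff_ne_bot U).2 hU0)) hn
    exact hne (IH _ hlt Γ (V ⧸ U) le_rfl hfree hfaith'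
      (fun q => QuotientAddGroup.induction_on q fun v => by
        rw [← QuotientAddGroup.mk_nsmul, hexp]; rfl) hcore A hA hoff')
  -- the minimal offenders
  obtain ⟨E₀, hE₀A, hE₀⟩ := exists_isMinOff hA hne hoff
  obtain ⟨T, hT⟩ := hA.isPGroup.exists_le_sylow
  set 𝒜 : Set (Subgroup Γ) := {E | IsMinOff V E} with h𝒜
  have hconj : ∀ E ∈ 𝒜, ∀ g, conjSub g E ∈ 𝒜 := fun E hE g => IsMinOff.conj hE g
  set J := genIn 𝒜 (T : Subgroup Γ) with hJ
  obtain ⟨z₀, hz₀, hz₀'⟩ := exists_fixed_ne_zero hexp T.2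
  set Y := AddSubgroup.closure {v : V | ∃ g ∈ normalizer (J : Set Γ), ∃ z ∈ fx V (T : Subgroup Γ), v = g • z}
    with hY
  have hgenY : ∀ g ∈ normalizer (J : Set Γ), ∀ z ∈ fx V (T : Subgroup Γ), g • z ∈ Y := fun g hg z hz =>
    AddSubgroup.subset_closure ⟨g, hg, z, hz, rfl⟩
  have hZY : fx V (T : Subgroup Γ) ≤ Y := fun z hz => by
    simpa using hgenY 1 (one_mem _) z hz
  have hext : ∀ g h : Γ, (∀ m ∈ normalizer (J : Set Γ), ∀ z ∈ fx V (T : Subgroup Γ), g • m • z = h • m • z) →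
      ∀ y ∈ Y, g • y = h • y := by
    intro g h hgh y hy
    have hle : Y ≤ AddMonoidHom.eqLocus (DistribSMul.toAddMonoidHom V g) (DistribSMul.toAddMonoidHom V h) := by
      rw [hY, AddSubgroup.closure_le]
      rintro _ ⟨m, hm, z, hz, rfl⟩
      exact hgh m hm z hz
    exact hle hy
  have hJY : ∀ j ∈ J, ∀ y ∈ Y, j • y = y := fun j hj y hy => by
    refine (hext j 1 (fun m hm z hz => ?_) y hy).trans (one_smul Γ y)
    have h1 : m⁻¹ * j * m ∈ (T : Subgroup Γ) := genIn_le _ (by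
      simpa using (mem_normalizer_iff.1 (inv_mem hm) j).1 hj)
    rw [one_smul, ← mul_smul, show j * m = m * (m⁻¹ * j * m) by group, mul_smul, hz _ h1]
  let Mx : Subgroup Γ :=
    { carrier := {g | ∀ v, g • v ∈ Y ↔ v ∈ Y}
      one_mem' := fun v => by rw [one_smul]
      mul_mem' := fun {a b} ha hb v => by rw [mul_smul]; exact (ha _).trans (hb v)
      inv_mem' := fun {a} ha v => by rw [← ha (a⁻¹ • v), smul_inv_smul] }
  have hfixMx : ∀ g : Γ, (∀ y ∈ Y, g • y = y) → g ∈ Mx := fun g hg v =>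
    ⟨fun hv => by
      have h1 := hg _ hv
      rw [smul_left_cancel_iff] at h1
      exact h1 ▸ hv, fun hv => (hg v hv).symm ▸ hv⟩
  have hNJ : normalizer (J : Set Γ) ≤ Mx := fun g hg => by
    have key : ∀ g ∈ normalizer (J : Set Γ), ∀ v ∈ Y, g • v ∈ Y := fun g hg v hv => by
      have hle : Y ≤ Y.comap (DistribSMul.toAddMonoidHom V g) := by
        conv_lhs => rw [hY]
        rw [AddSubgroup.closure_le]
        rintro _ ⟨m, hm, z, hz, rfl⟩
        show g • m • z ∈ Y
        rw [← mul_smul]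
        exact hgenY _ (mul_mem hg hm) z hz
      exact hle hv
    exact fun v => ⟨fun h => by simpa using key g⁻¹ (inv_mem hg) _ h, key g hg v⟩
  have hTM : (T : Subgroup Γ) ≤ Mx :=
    (Subgroup.le_normalizer.trans (normalizer_le_genIn hconj _)).trans hNJ
  have hE₀J : E₀ ≤ J := le_genIn hE₀ (hE₀A.trans hT)
  -- the subspace is not invariant
  have hMx : Mx ≠ ⊤ := by
    intro htop
    let K : Subgroup Γ :=
      { carrier := {g | ∀ y ∈ Y, g • y = y}
        one_mem' := fun y _ => one_smul Γ y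
        mul_mem' := fun {a b} ha hb y hy => by rw [mul_smul, hb y hy, ha y hy]
        inv_mem' := fun {a} ha y hy => by rw [inv_smul_eq_iff, ha y hy] }
    haveI hKn : K.Normal := ⟨fun k hk x y hy => by
      have h1 : x⁻¹ • y ∈ Y := ((htop.symm ▸ mem_top x⁻¹ : x⁻¹ ∈ Mx) y).2 hy
      rw [mul_smul, mul_smul, hk _ h1, smul_inv_smul]⟩
    have hK : K ≠ ⊤ := fun e => hz₀' (AddSubgroup.mem_bot.1 (hU0 ▸ (show z₀ ∈ U from fun g _ =>
      (e.symm ▸ mem_top g : g ∈ K) z₀ (hZY hz₀))))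
    have hlt : Nat.card ↥K + Nat.card V < n := lt_of_lt_of_le (Nat.add_lt_add_right (lt_of_le_of_ne
      (Subgroup.card_le_card_group K) fun e => hK (eq_top_of_card_eq K e)) _) hn
    have hcK : pCore 2 ↥K = ⊥ := (map_eq_bot_iff_of_injective _ K.subtype_injective).1
      (le_bot_iff.1 ((CfsgLib.Cores.map_subtype_pCore_le_of_normal 2 K).trans hcore.le))
    have hE₀K : E₀ ≤ K := fun e he => hJY e (hE₀J he)
    have hoffK : OffOn V (E₀.subgroupOf K) := by
      have h1 : fx V E₀ ≤ fx V (E₀.subgroupOf K) := fun v hv k hk => hv k (mem_subgroupOf.1 hk)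
      unfold OffOn
      rw [Nat.card_congr (subgroupOfEquivOfLe hE₀K).toEquiv]
      exact hE₀.off.trans (Nat.mul_le_mul_left _
        (Nat.card_le_card_of_injective _ (AddSubgroup.inclusion_injective h1)))
    have hb := IH _ hlt ↥K V le_rfl (fun hi => hfree (involves_of_injective K.subtype K.subtype_injective hi))
      (fun k hk => Subtype.ext (hfaith k hk)) hexp hcK (E₀.subgroupOf K) (hE₀.elem.subgroupOf K) hoffK
    rw [subgroupOf_eq_bot, disjoint_iff, inf_eq_left.2 hE₀K] at hb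
    exact hE₀.ne hb
  -- the group induced on the subspace
  have hYinv : ∀ g ∈ Mx, ∀ y ∈ Y, g • y ∈ Y := fun g hg y hy => (hg y).2 hy
  haveI := finite_img Mx Y hYinv
  have hYne : Y ≠ ⊤ := fun e => hMx (eq_top_iff.2 fun g _ v => by simp [e])
  have hcoreY : pCore 2 ↥(Img Mx Y hYinv) = ⊥ := by
    refine (eq_bot_iff_forall _).2 fun p hp => img_faithful Mx Y hYinv p fun w => ?_
    haveI hPn := CfsgLib.Cores.pCore_characteristic (G := ↥(Img Mx Y hYinv)) 2
    have hfixT : ∀ q ∈ pCore 2 ↥(Img Mx Y hYinv), ∀ z (hz : z ∈ fx V (T : Subgroup Γ)),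
        q • (⟨z, hZY hz⟩ : ↥Y) = ⟨z, hZY hz⟩ := by
      intro q hq z hz
      have h1 := CfsgLib.Cores.pCore_le_sylow ((T.subtype hTM).mapSurjective (toImg_surjective Mx Y hYinv)) hq
      rw [Sylow.coe_mapSurjective] at h1
      obtain ⟨t, ht, rfl⟩ := h1
      exact Subtype.ext ((toImg_smul Mx Y hYinv t _).trans (hz _ ht))
    have key : ∀ v (hv : v ∈ Y), p • (⟨v, hv⟩ : ↥Y) = ⟨v, hv⟩ := by
      intro v hv
      induction hv using AddSubgroup.closure_induction with
      | mem x hx =>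
        obtain ⟨m, hm, z, hz, rfl⟩ := hx
        set h := toImg Mx Y hYinv ⟨m, hNJ hm⟩
        have e : (⟨m • z, hgenY m hm z hz⟩ : ↥Y) = h • (⟨z, hZY hz⟩ : ↥Y) := Subtype.ext rfl
        have h1 := hfixT (h⁻¹ * p * h)
          (by simpa using (inferInstance : (pCore 2 ↥(Img Mx Y hYinv)).Normal).conj_mem p hp h⁻¹) z hz
        rw [mul_smul, mul_smul, inv_smul_eq_iff] at h1
        show p • (⟨m • z, hgenY m hm z hz⟩ : ↥Y) = ⟨m • z, hgenY m hm z hz⟩
        rw [e]; exact h1
      | zero => exact smul_zero p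
      | add x y hx hy ihx ihy =>
        show p • ((⟨x, hx⟩ : ↥Y) + ⟨y, hy⟩) = ⟨x, hx⟩ + ⟨y, hy⟩
        rw [smul_add]; exact congrArg₂ _ ihx ihy
      | neg x hx ihx =>
        show p • (-(⟨x, hx⟩ : ↥Y)) = -⟨x, hx⟩
        rw [smul_neg]; exact congrArg Neg.neg ihx
    exact key w.1 w.2
  have hnoY : ∀ (G : Type u) [Group G] [Finite G] (W : Type u) [AddCommGroup W] [Finite W] [DistribMulAction G W]
      (ι : ↥Y →+ W), Function.Injective ι → ∀ E : Subgroup G, Elem2 E → OffSub ι.range E →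
      (∀ e ∈ E, ∃ x : ↥(Img Mx Y hYinv), Acts ι x e) → ∀ e ∈ E, ∀ y : ↥Y, e • ι y = ι y := by
    intro G _ _ W _ _ _ ι hι E hE hoffE hlift e he y
    have hlt : Nat.card ↥(Img Mx Y hYinv) + Nat.card ↥Y < n := lt_of_lt_of_le (add_lt_add_of_le_of_lt
      (card_img_le Mx Y hYinv) (lt_of_le_of_ne (Nat.card_le_card_of_injective _ Subtype.val_injective)
        fun e' => hYne (AddSubgroup.eq_top_of_card_eq Y e'))) hn
    refine fixes_of_push_eq_bot hlift ?_ he y
    exact IH _ hlt ↥(Img Mx Y hYinv) ↥Y le_rfl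
      (fun hi => hfree (involves_of_injective Mx.subtype Mx.subtype_injective
        (involves_of_surjective _ (toImg_surjective Mx Y hYinv) hi)))
      (img_faithful Mx Y hYinv) (fun y => Subtype.ext (hexp _)) hcoreY _
      (hE.push (img_faithful Mx Y hYinv) hι) (offOn_push hlift (img_faithful Mx Y hYinv) hι hoffE)
  -- the configuration
  obtain ⟨R, E, L, hRJ, hE, hET, hEL, hLN, hLM, hsub, hK⟩ := exists_pair_minimal hconj T Mx hTM hMx hNJ
  set W := AddSubgroup.closure {v : V | ∃ l ∈ L, ∃ y ∈ Y, v = l • y} with hW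
  have hgenW : ∀ l ∈ L, ∀ y ∈ Y, l • y ∈ W := fun l hl y hy => AddSubgroup.subset_closure ⟨l, hl, y, hy, rfl⟩
  have hYW : Y ≤ W := fun y hy => by simpa using hgenW 1 (one_mem L) y hy
  have hWinv : ∀ l ∈ L, ∀ w ∈ W, l • w ∈ W := fun l hl w hw => by
    have hle : W ≤ W.comap (DistribSMul.toAddMonoidHom V l) := by
      conv_lhs => rw [hW]
      rw [AddSubgroup.closure_le]
      rintro _ ⟨m, hm, y, hy, rfl⟩
      show l • m • y ∈ W
      rw [← mul_smul]
      exact hgenW _ (mul_mem hl hm) y hy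
    exact hle hw
  haveI := finite_img L W hWinv
  have hfaithW := img_faithful L W hWinv
  have hRW : ∀ r : ↥L, (r : Γ) ∈ R → toImg L W hWinv r = 1 := fun r hr => hfaithW _ fun w => Subtype.ext <| by
    rw [toImg_smul]
    have hle : W ≤ AddMonoidHom.eqLocus (DistribSMul.toAddMonoidHom V (r : Γ)) (AddMonoidHom.id V) := by
      rw [hW, AddSubgroup.closure_le]
      rintro _ ⟨l, hl, y, hy, rfl⟩
      show (r : Γ) • l • y = l • y
      have h1 : l⁻¹ * r * l ∈ R := by simpa using (mem_normalizer_iff.1 (inv_mem (hLN hl)) (r : Γ)).1 hr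
      rw [← mul_smul, show (r : Γ) * l = l * (l⁻¹ * r * l) by group, mul_smul, hJY _ (hRJ h1) y hy]
    exact hle w.2
  have hker : ∀ l : ↥L, toImg L W hWinv l = 1 → (l : Γ) ∈ Mx := fun l hl => hfixMx _ fun y hy => by
    rw [show (l : Γ) • y = ((toImg L W hWinv l • (⟨y, hYW hy⟩ : ↥W) : ↥W) : V) from rfl, hl, one_smul]
  have hARL : (E ⊔ R).subgroupOf L = E.subgroupOf L ⊔ R.subgroupOf L :=
    Subgroup.subgroupOf_sup (le_sup_left.trans hEL) (le_sup_right.trans hEL)
  have hER : IsPGroup 2 ↥((E ⊔ R).subgroupOf L) :=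
    (T.2.to_le (sup_le hET (hRJ.trans (genIn_le _)))).of_equiv (subgroupOfEquivOfLe hEL).symm
  obtain ⟨Q, hQ⟩ := hER.exists_le_sylow
  have hQM : (Q : Subgroup ↥L).map L.subtype ≤ Mx :=
    (hK _ (Q.2.map L.subtype) fun x hx => ⟨⟨x, hEL hx⟩, hQ hx, rfl⟩).1
  have hliftW : ∀ e ∈ E, ∃ x : ↥(Img L W hWinv), Acts W.subtype x e := fun e he =>
    ⟨_, acts_toImg L W hWinv ⟨e, hEL (mem_sup_left he)⟩⟩
  have huniq : ∀ {x : ↥(Img L W hWinv)} (l : ↥L), Acts W.subtype x (l : Γ) → x = toImg L W hWinv l :=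
    fun {x} l h => inv_mul_eq_one.1 (hfaithW _ fun w => Subtype.val_injective (by
      have h1 := h.inv.mul (acts_toImg L W hWinv l) w
      rwa [inv_mul_cancel, one_smul] at h1))
  have hA' : push (X := ↥(Img L W hWinv)) W.subtype E ≠ ⊥ := by
    intro hbot
    set f := toImg L W hWinv
    have hEk : (E ⊔ R).subgroupOf L ≤ f.ker := by
      rw [hARL]
      refine sup_le (fun l hl => ?_) fun l hl => MonoidHom.mem_ker.2 (hRW l hl)
      exact MonoidHom.mem_ker.2 (mem_bot.1 (hbot ▸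
        (⟨_, hl, acts_toImg L W hWinv l⟩ : f l ∈ push W.subtype E)))
    obtain ⟨P, hP⟩ := (hER.of_equiv (subgroupOfEquivOfLe hEk).symm).exists_le_sylow
    have hfr := Sylow.normalizer_sup_eq_top P
    set P₁ := ((P : Subgroup ↥f.ker).map f.ker.subtype).map L.subtype with hP₁
    have hP₁le : E ⊔ R ≤ P₁ := fun x hx =>
      ⟨⟨x, hEL hx⟩, ⟨⟨⟨x, hEL hx⟩, hEk hx⟩, hP hx, rfl⟩, rfl⟩
    have hN := (hK P₁ ((P.2.map f.ker.subtype).map L.subtype) hP₁le).2
    refine hLM fun l hl => ?_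
    have htop : (⊤ : Subgroup ↥L) ≤ Mx.subgroupOf L := by
      rw [← hfr]
      refine sup_le (fun x hx => ?_) fun x hx => hker x hx
      refine hN (normalizer_le_genIn hconj P₁ ?_)
      exact Subgroup.le_normalizer_map L.subtype ⟨x, hx, rfl⟩
    exact htop (mem_top ⟨l, hl⟩)
  refine CoreHyp.absurd_of_smaller (X := ↥(Img L W hWinv)) (W := ↥W)
    (A := push W.subtype E) (Mx := (Mx.subgroupOf L).map (toImg L W hWinv)) (Y := Y.addSubgroupOf W)
    (T := Q.mapSurjective (toImg_surjective L W hWinv)) ?_ fun m hm => IH m (lt_of_lt_of_le (hm.trans_le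
      (Nat.add_le_add (card_img_le L W hWinv) (Nat.card_le_card_of_injective _ Subtype.val_injective))) hn)
  refine ⟨fun hi => hfree (involves_of_injective L.subtype L.subtype_injective
      (involves_of_surjective _ (toImg_surjective L W hWinv) hi)), fun w => Subtype.ext (hexp _), hfaithW,
    hE.elem.push hfaithW Subtype.val_injective, hA',
    offOn_push hliftW hfaithW Subtype.val_injective (hE.offSub _),
    fun B h1 h2 h3 => strict_push hliftW hfaithW Subtype.val_injective hE B h1 h2 h3,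
    ?_, ?_, ?_, ?_, ?_, ?_, ?_, ?_⟩
  · rintro x ⟨e, he, hx⟩ y hy
    exact Subtype.ext ((hx y).trans (hJY e (le_genIn hE hET he) _ hy))
  · refine eq_top_iff.2 fun w _ => ?_
    have key : ∀ v (hv : v ∈ W), (⟨v, hv⟩ : ↥W) ∈ AddSubgroup.closure
        {w : ↥W | ∃ x : ↥(Img L W hWinv), ∃ y ∈ Y.addSubgroupOf W, w = x • y} := by
      intro v hv
      induction hv using AddSubgroup.closure_induction with
      | mem x hx =>
        obtain ⟨l, hl, y, hy, rfl⟩ := hx
        exact AddSubgroup.subset_closure ⟨toImg L W hWinv ⟨l, hl⟩, ⟨y, hYW hy⟩, hy, Subtype.ext rfl⟩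
      | zero => exact zero_mem _
      | add x y hx hy ihx ihy => exact add_mem ihx ihy
      | neg x hx ihx => exact neg_mem ihx
    exact key w.1 w.2
  · rintro _ ⟨l, hl, rfl⟩ y hy
    exact hYinv _ hl _ hy
  · intro htop
    refine hLM fun l hl => ?_
    obtain ⟨z, hz, e⟩ := (htop.symm ▸ mem_top _ : toImg L W hWinv ⟨l, hl⟩ ∈
      (Mx.subgroupOf L).map (toImg L W hWinv))
    have h1 := hker (z⁻¹ * ⟨l, hl⟩) (by rw [map_mul, map_inv, e, inv_mul_cancel])
    simpa using mul_mem (mem_subgroupOf.1 hz) h1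
  · rw [Sylow.coe_mapSurjective]
    exact map_mono fun x hx => hQM ⟨x, hx, rfl⟩
  · rw [Sylow.coe_mapSurjective]
    rintro x ⟨e, he, hx⟩
    exact ⟨⟨e, hEL (mem_sup_left he)⟩, hQ (mem_sup_left he : e ∈ E ⊔ R), (huniq ⟨e, hEL (mem_sup_left he)⟩ hx).symm⟩
  · intro H hEH hHtop x hx
    set H₀ := (H.comap (toImg L W hWinv)).map L.subtype with hH₀
    have hne' : H₀ ≠ L := fun e => hHtop (eq_top_iff.2 fun z _ => by
      obtain ⟨l, rfl⟩ := toImg_surjective L W hWinv z
      obtain ⟨l', hl', e'⟩ := (e.symm ▸ l.2 : (l : Γ) ∈ H₀)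
      rw [← Subtype.ext e']; exact hl')
    have hle : E ⊔ R ≤ H₀ := by
      refine sup_le (fun e he => ?_) fun r hr => ?_
      · exact ⟨⟨e, hEL (mem_sup_left he)⟩,
          hEH ⟨e, he, acts_toImg L W hWinv ⟨e, hEL (mem_sup_left he)⟩⟩, rfl⟩
      · refine ⟨⟨r, hEL (mem_sup_right hr)⟩, ?_, rfl⟩
        show toImg L W hWinv ⟨r, hEL (mem_sup_right hr)⟩ ∈ H
        rw [hRW _ hr]; exact one_mem H
    obtain ⟨l, rfl⟩ := toImg_surjective L W hWinv x
    exact ⟨l, mem_subgroupOf.2 (hsub H₀ hle (map_subtype_le _) hne' ⟨l, hx, rfl⟩), rfl⟩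
  · intro F hFM hF hFoff f hf y hy
    let ι : ↥Y →+ ↥W := AddSubgroup.inclusion hYW
    have hr : ι.range = Y.addSubgroupOf W :=
      AddSubgroup.ext fun w => ⟨fun ⟨y, e⟩ => e ▸ y.2, fun hw => ⟨⟨(w : V), hw⟩, rfl⟩⟩
    refine hnoY ↥(Img L W hWinv) ↥W ι (AddSubgroup.inclusion_injective hYW) F hF (hr ▸ hFoff) (fun e he => ?_)
      f hf ⟨(y : V), hy⟩
    obtain ⟨l, hl, rfl⟩ := hFM he
    exact ⟨toImg Mx Y hYinv ⟨(l : Γ), hl⟩, fun z => Subtype.ext rfl⟩

/-- No offender without a section `S₃` and without a normal `2`-subgroup. -/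
theorem no_offender {Γ V : Type u} [Group Γ] [Finite Γ] [AddCommGroup V] [Finite V] [DistribMulAction Γ V]
    (hfree : ¬ Involves (Equiv.Perm (Fin 3)) Γ) (hfaith : ∀ g : Γ, (∀ v : V, g • v = v) → g = 1)
    (hexp : ∀ v : V, 2 • v = 0) (hcore : pCore 2 Γ = ⊥) {A : Subgroup Γ} (hA : Elem2 A) (hoff : OffOn V A) :
    A = ⊥ :=
  noOffenders _ Γ V le_rfl hfree hfaith hexp hcore A hA hoff

end CfsgLib.NoFF
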