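import Cfsg.Agent.Lib.NoFF.Main
import Cfsg.Agent.Lib.SFactor.Main

/-!
A `2`-constrained group without section `S₄` is the product of the centralizer of the centre of a Sylow
`2`-subgroup and the normalizer of its Thompson subgroup.
-/

set_option autoImplicit false
set_option linter.unusedSectionVars false
set_option linter.style.haveILetI false

namespace CfsgLib.NoFF

open Subgroup Cfsg
open CfsgLib.PStab
open CfsgLib.LocalEven.MinOffender (fx)
open scoped IsMulCommutative

universe u

variable {G : Type u} [Group G] [Finite G]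

/-- A largest elementary abelian subgroup of `S` centralizes an elementary normal subgroup without a normal
`2`-subgroup in its automizer. -/
theorem maxAdm_le_centralizer (hfree : ¬ Involves (Equiv.Perm (Fin 4)) G) {V : Subgroup G} [hVn : V.Normal]
    (hVe : IsElementaryAbelian 2 V) (hO : pCore 2 (G ⧸ centralizer (V : Set G)) = ⊥) {T A : Subgroup G}
    (hVT : V ≤ T) (hA : A ∈ maxAdm 2 T) : A ≤ centralizer (V : Set G) := by
  classical
  haveI : IsMulCommutative V := hVe.1
  let cj : G →* MulAut V := MulAut.conjNormal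
  let f := cj.rangeRestrict
  have hcj : ∀ (g : G) (v : V), ((cj g v : V) : G) = g * v * g⁻¹ := fun g v => rfl
  have hker : f.ker = centralizer (V : Set G) := by
    ext g
    rw [MonoidHom.ker_rangeRestrict, MonoidHom.mem_ker, mem_centralizer_iff]
    constructor
    · intro h v hv
      have h1 := congrArg Subtype.val (DFunLike.congr_fun h (⟨v, hv⟩ : V))
      exact (mul_inv_eq_iff_eq_mul.1 (h1 : g * v * g⁻¹ = v)).symm
    · intro h
      refine MulEquiv.ext fun v => Subtype.ext ?_
      show g * (v : G) * g⁻¹ = v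
      rw [← h v v.2, mul_inv_cancel_right]
  letI : DistribMulAction ↥cj.range (Additive ↥V) :=
    { smul := fun g v => Additive.ofMul ((g : MulAut V) v.toMul)
      one_smul := fun v => rfl
      mul_smul := fun g h v => rfl
      smul_zero := fun g => congrArg Additive.ofMul (map_one (g : MulAut V))
      smul_add := fun g v w => congrArg Additive.ofMul (map_mul (g : MulAut V) v.toMul w.toMul) }
  let e : (G ⧸ centralizer (V : Set G)) ≃* ↥cj.range :=
    (QuotientGroup.quotientMulEquivOfEq hker.symm).trans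
      (QuotientGroup.quotientKerEquivOfSurjective f cj.rangeRestrict_surjective)
  haveI : Finite ↥cj.range := Finite.of_surjective f cj.rangeRestrict_surjective
  have hfree3 : ¬ Involves (Equiv.Perm (Fin 3)) ↥cj.range := fun hi =>
    CfsgLib.SFactor.sThreeFree hfree hVe le_rfl
      (CfsgLib.LocalEven.Offender.involves_of_injective e.symm.toMonoidHom e.symm.injective hi)
  have hcore : pCore 2 ↥cj.range = ⊥ := by
    rw [← CfsgLib.Cores.map_pCore_equiv e, hO, Subgroup.map_bot]
  have hA2 : Elem2 (A.map f) :=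
    Elem2.map (fun a ha => (pow_two a).symm.trans (hA.2.1.2 a ha)) f
  have hfix : ∀ (g : G) (v : Additive ↥V), f g • v = v ↔ g * (v.toMul : G) = (v.toMul : G) * g := fun g v => by
    constructor
    · intro h
      exact mul_inv_eq_iff_eq_mul.1 (congrArg (fun x : Additive ↥V => (x.toMul : G)) h)
    · intro h
      exact Additive.toMul.injective (Subtype.ext (mul_inv_eq_iff_eq_mul.2 h))
  have hoff : OffOn (Additive ↥V) (A.map f) := by
    have h1 : Nat.card ↥(fx (Additive ↥V) (A.map f)) = Nat.card ↥(V ⊓ centralizer (A : Set G)) :=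
      Nat.card_congr
        { toFun := fun v => ⟨((v : Additive ↥V).toMul : G), (v : Additive ↥V).toMul.2,
            mem_centralizer_iff.2 fun a ha => (hfix a _).1 (v.2 _ ⟨a, ha, rfl⟩)⟩
          invFun := fun v => ⟨Additive.ofMul ⟨(v : G), v.2.1⟩, by
            rintro _ ⟨a, ha, rfl⟩
            exact (hfix a _).2 (mem_centralizer_iff.1 v.2.2 a ha)⟩
          left_inv := fun _ => rfl
          right_inv := fun _ => rfl }
    have h2 : Nat.card ↥(A.map f) = (centralizer (V : Set G)).relIndex A := by
      rw [← hker, ← MonoidHom.comap_bot, Subgroup.relIndex_comap, relIndex_bot_left]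
    unfold OffOn
    rw [h1, h2, Nat.card_congr (Additive.toMul (α := ↥V)),
      CfsgLib.SFactor.card_eq_relIndex_mul (centralizer (A : Set G)) V]
    exact Nat.mul_le_mul_right _ (CfsgLib.SFactor.relIndex_offender hA hVT hVe)
  have hbot := no_offender hfree3
    (fun g hg => Subtype.ext (MulEquiv.ext fun v => congrArg Additive.toMul (hg (Additive.ofMul v))))
    (fun v => Additive.toMul.injective (Subtype.ext (by
      rw [toMul_nsmul, SubgroupClass.coe_pow]
      exact (hVe.2 _ v.toMul.2).trans rfl))) hcore hA2 hoff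
  rw [← hker]
  exact (Subgroup.map_eq_bot_iff A).1 hbot

/-- `G = C(Z(T)) N(J(T))`. -/
theorem product (hfree : ¬ Involves (Equiv.Perm (Fin 4)) G)
    (hc : centralizer ((pCore 2 G : Subgroup G) : Set G) ≤ pCore 2 G) (S : Sylow 2 G) (g : G) :
    ∃ c ∈ centralizer (((S : Subgroup G) ⊓ centralizer ((S : Subgroup G) : Set G) : Subgroup G) : Set G),
      ∃ n ∈ normalizer (thompsonSubgroupOf 2 (S : Subgroup G) : Set G), g = c * n := by
  classical
  haveI : Fact (Nat.Prime 2) := ⟨Nat.prime_two⟩
  set H := pCore 2 G with hH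
  set f : Sylow 2 G → Subgroup G := fun S' =>
    (S' : Subgroup G) ⊓ centralizer ((S' : Subgroup G) : Set G) with hf
  set W := ⨆ S', f S' with hW
  have hfH : ∀ S', f S' ≤ H ⊓ centralizer (H : Set G) := fun S' => by
    have h1 : f S' ≤ centralizer (H : Set G) :=
      inf_le_right.trans (centralizer_le (CfsgLib.Cores.pCore_le_sylow S'))
    exact le_inf (h1.trans hc) h1
  have hWHC : W ≤ H ⊓ centralizer (H : Set G) := iSup_le hfH
  have hWc : ∀ a ∈ W, ∀ b ∈ W, a * b = b * a := fun a ha b hb =>
    mem_centralizer_iff.1 (hWHC hb).2 a (hWHC ha).1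
  haveI hWn : W.Normal := by
    refine ⟨fun x hx g => ?_⟩
    have hle : W ≤ W.comap (MulAut.conj g).toMonoidHom := iSup_le fun S' => by
      refine map_le_iff_le_comap.1 (le_trans (le_of_eq ?_) (le_iSup f (g • S')))
      rw [hf]
      dsimp only
      rw [Subgroup.map_inf _ _ _ (MulAut.conj g).injective,
        CfsgLib.SFactor.map_centralizer_of_injective _ (MulAut.conj g).injective,
        MonoidHom.range_eq_top.2 (MulAut.conj g).surjective, top_inf_eq, Sylow.coe_subgroup_smul]
      rfl
    exact hle hx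
  have hWp : IsPGroup 2 W := (CfsgLib.Cores.isPGroup_pCore 2).to_le (hWHC.trans inf_le_left)
  set C := centralizer (W : Set G) with hC
  let V : Subgroup G :=
    { carrier := {w | w ∈ W ∧ w ^ 2 = 1}
      one_mem' := ⟨one_mem _, one_pow _⟩
      mul_mem' := fun {a b} ha hb => ⟨mul_mem ha.1 hb.1, by
        rw [(show Commute a b from hWc a ha.1 b hb.1).mul_pow, ha.2, hb.2, one_mul]⟩
      inv_mem' := fun {a} ha => ⟨inv_mem ha.1, by rw [inv_pow, ha.2, inv_one]⟩ }
  have hVW : V ≤ W := fun x hx => hx.1
  haveI hVn : V.Normal := ⟨fun x hx g =>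
    ⟨hWn.conj_mem x hx.1 g, by rw [conj_pow, hx.2, mul_one, mul_inv_cancel]⟩⟩
  have hVe : IsElementaryAbelian 2 V :=
    PGroup.isElementaryAbelian_mk (fun a ha b hb => hWc a ha.1 b hb.1) fun a ha => ha.2
  have hCC : centralizer (V : Set G) = C := by
    refine Transfer.eq_centralizer_of_iSup (centralizer (V : Set G)) f (fun S' => inf_le_right) hW
      (centralizer_le hVW) ?_
    have hp : IsPGroup 2 ((centralizer (V : Set G)).map (QuotientGroup.mk' C)) := by
      rintro ⟨_, x, hx, rfl⟩
      refine ⟨(orderOf x).factorization 2, Subtype.ext ?_⟩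
      show (QuotientGroup.mk' C x) ^ 2 ^ _ = 1
      rw [← map_pow]
      refine (QuotientGroup.eq_one_iff _).2 (mem_centralizer_iff.2 fun w hw => ?_)
      refine (CfsgLib.SFactor.centralizes_of_omegaOne hWp hWc ?_ (fun v hv hv2 => ?_) w hw).symm
      · rw [orderOf_pow_of_dvd (pow_ne_zero _ two_ne_zero) (Nat.ordProj_dvd _ _)]
        exact (Nat.coprime_ordCompl Nat.prime_two (orderOf_pos x).ne').symm
      · exact (mem_centralizer_iff.1 (pow_mem hx _) v ⟨hv, hv2⟩).symm
    obtain ⟨k, hk⟩ := IsPGroup.iff_card.1 hp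
    refine ⟨k, ?_⟩
    show C.relIndex _ = _
    rw [← hk, ← relIndex_bot_left, ← Subgroup.relIndex_comap, MonoidHom.comap_bot, QuotientGroup.ker_mk']
  have hO : pCore 2 (G ⧸ centralizer (V : Set G)) = ⊥ :=
    Transfer.pCore_quotient_centralizer_eq_bot V fun D hD hle hk => by
      haveI := hD
      rw [hCC] at hle hk ⊢
      exact Transfer.eq_centralizer_of_iSup D f (fun S' => inf_le_right) hW hle hk
  have hVS : V ≤ (S : Subgroup G) :=
    (hVW.trans (hWHC.trans inf_le_left)).trans (CfsgLib.Cores.pCore_le_sylow S)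
  have hJC : jGen 2 (S : Subgroup G) ≤ C :=
    sSup_le fun A hA => (maxAdm_le_centralizer hfree hVe hO hVS hA).trans hCC.le
  obtain ⟨T, hT⟩ := Transfer.exists_sylow_map_eq_inf C S
  have hg : g ∈ C ⊔ normalizer ((T : Subgroup ↥C).map C.subtype : Set G) := by
    rw [sup_comm, Sylow.normalizer_sup_eq_top T]; trivial
  obtain ⟨c, hcC, n, hn, rfl⟩ := mem_sup_of_normal_left.1 hg
  refine ⟨c, centralizer_le (le_iSup f S) hcC, n, ?_, rfl⟩
  rw [thompsonSubgroupOf_eq_jGen, ← CfsgLib.SFactor.jGen_eq_of_le (T' := (S : Subgroup G) ⊓ C) inf_le_left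
    (le_inf (sSup_le fun A hA => hA.1) hJC)]
  rw [hT] at hn
  exact normalizer_le_normalizer_jGen _ _ hn

end CfsgLib.NoFF
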